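import Mathlib
import Cfsg.Agent.H631.TorusCent
import Cfsg.Agent.Nodes.RGDChev
import Cfsg.Agent.OddHalf.LongSL.Tw_m3
import Cfsg.Agent.KFacts.RgdChevCoord
import Cfsg.Prelude.Def_SevenCases
import Cfsg.Agent.CTwoTab.Base
import Cfsg.Agent.Lib.Cores
import Cfsg.Agent.SignalizersComponents.Components
import Cfsg.Agent.SignalizersComponents.ComponentImage
import Cfsg.Agent.OddTab.Base
import Cfsg.Agent.RankThreeTwo.Base
import Cfsg.Agent.ChevFast.E6
import Cfsg.Agent.ChevFast.E7
import Cfsg.Agent.ChevFast.E8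
import Cfsg.Agent.ChevFast.F4
import Cfsg.Agent.FastGrp
import Cfsg.Agent.Prune
set_option linter.all false

section
prune_inst 0x7f00000000000000000000000000000000000000000000000000000000000000000000000000000000000000000000000000000000000000000000000000000000000000000000000000000000000000003fffffffffffffffffffffffffffbeffbdffffffff

-- part: GenExc/Main
section
set_option linter.all false
open scoped Cfsg.Agent.FastGrp

-- merged: Cfsg.Agent.GenExc.Tab
section

/-!
# Tabulated root systems: even roots and Levi subsystems (helper3)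

`S : List (Fin l)` a list of nodes with multiplicities, `csum D S r = ∑_{i ∈ S} ⟨r, p_i^∨⟩`.
* `Ev D l Ss` : the roots `r` with `csum D S r` even for all `S ∈ Ss`;
* `NI_eq` : `NI (Ev D l Ss) = LR f` from the kernel check `chk`.
-/

set_option autoImplicit false
set_option linter.unusedSectionVars false

namespace Cfsg.Agent.GenExc

open CoxeterSystem Subgroup
open Cfsg Cfsg.Lie Cfsg.Lie.ChevalleyDatum
open Cfsg.Agent.ChevalleyStructure Cfsg.Agent.ChevalleyStructure.CoxeterGeom Cfsg.Agent.ChevalleyStructure.RootVec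
  Cfsg.Agent.ChevalleyStructure.RootVecTab Cfsg.Agent.ChevalleyStructure.CoxeterGeomTypes
open Cfsg.Agent.Tits.Roots Cfsg.Agent.Nodes.RGDChev

/-- `∑_{i ∈ S} ⟨r, p_i^∨⟩` -/
def csum (D : ChevalleyDatum) {l : ℕ} (S : List (Fin l)) (r : ℕ) : ℤ := (S.map fun i => D.cartan i r).sum

/-- the same from the packed table: `csum + 8 |S|` -/
def csN (D : ChevalleyDatum) {l : ℕ} : List (Fin l) → ℕ → ℕ
  | [], _ => 0
  | i :: S, r => Nat.add (cart D i r) (csN D S r)

/-- `csum` is even -/
def evB (D : ChevalleyDatum) {l : ℕ} (S : List (Fin l)) (r : ℕ) : Bool := Nat.beq (Nat.mod (csN D S r) 2) 0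

/-- the coefficients of `r` at the nodes in `Jc` vanish -/
def isJ (D : ChevalleyDatum) {l : ℕ} (Jc : List (Fin l)) (r : ℕ) : Bool :=
  Jc.all fun k => Nat.beq (dig (code D r) (D.rank - 1 - k)) 8

/-- linear form on vectors -/
def csv {l : ℕ} (A : Fin l → Fin l → ℤ) (S : List (Fin l)) (x : Fin l → ℤ) : ℤ := (S.map fun i => pairing A i x).sum

theorem csv_add {l : ℕ} (A : Fin l → Fin l → ℤ) (S : List (Fin l)) (x y : Fin l → ℤ) :
    csv A S (x + y) = csv A S x + csv A S y := by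
  induction S with
  | nil => rfl
  | cons i S ih =>
    have h1 : ∀ z, csv A (i :: S) z = pairing A i z + csv A S z := fun z => rfl
    rw [h1, h1, h1, ih, pairing_add]
    ring

section

variable {D : ChevalleyDatum} {l : ℕ} {M : CoxeterMatrix (Fin l)} (hp : IsType D l M)

include hp

theorem csN_eq (S : List (Fin l)) {r : ℕ} (hr : r < D.nroots) : (csN D S r : ℤ) = csum D S r + 8 * S.length := by
  induction S with
  | nil => rfl
  | cons i S ih =>
    have h1 : csN D (i :: S) r = cart D i r + csN D S r := rfl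
    have h2 : csum D (i :: S) r = D.cartan i r + csum D S r := rfl
    rw [h1, h2, Nat.cast_add, ih, cartan_eq_cart hp.checked (lt_rank hp i) hr, List.length_cons]
    push_cast
    ring

theorem csv_vec (S : List (Fin l)) {r : ℕ} (hr : r < D.nroots) : csv (cartanOf D l) S (vec D l r) = csum D S r := by
  induction S with
  | nil => rfl
  | cons i S ih =>
    have h1 : csv (cartanOf D l) (i :: S) (vec D l r) = pairing (cartanOf D l) i (vec D l r) +
      csv (cartanOf D l) S (vec D l r) := rfl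
    have h2 : csum D (i :: S) r = D.cartan i r + csum D S r := rfl
    rw [h1, h2, ih, pairing_vec hp i hr]

theorem evB_iff (S : List (Fin l)) {r : ℕ} (hr : r < D.nroots) : evB D S r = true ↔ Even (csum D S r) := by
  have h1 := csN_eq hp S hr
  unfold evB
  rw [beq_iff, Int.even_iff]
  have h2 : Nat.mod (csN D S r) 2 = csN D S r % 2 := rfl
  rw [h2]
  (clear * - h1; omega)

theorem csum_neg (S : List (Fin l)) {r : ℕ} (hr : r < D.nroots) : csum D S (D.neg r) = -csum D S r := by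
  induction S with
  | nil => rfl
  | cons i S ih =>
    have h2 : ∀ r, csum D (i :: S) r = D.cartan i r + csum D S r := fun r => rfl
    rw [h2, h2, ih, _root_.Cfsg.Agent.ChevalleyStructure.RootVec.cartan_neg hp.checked (lt_rank hp i) hr]
    ring

theorem isJ_iff (Jc : List (Fin l)) {r : ℕ} (hr : r < D.nroots) :
    isJ D Jc r = true ↔ ∀ k ∈ Jc, vec D l r k = 0 := by
  unfold isJ
  rw [List.all_eq_true]
  refine forall₂_congr fun k _ => ?_
  rw [beq_iff, vec_apply, rt_of_lt hr (lt_rank hp k)]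
  omega

end

/-- the roots with all `csum D S`, `S ∈ Ss`, even -/
def Ev (D : ChevalleyDatum) (l : ℕ) (Ss : List (List (Fin l))) : Set (Fin l → ℤ) :=
  {x | ∃ r < D.nroots, vec D l r = x ∧ ∀ S ∈ Ss, Even (csum D S r)}

/-- the check for one root: `J`-roots are even and have a `J`-root with which the sum is a root; the other even roots are
`± a`, `a ∈ As`. -/
def chkJ (D : ChevalleyDatum) {l : ℕ} (Ss : List (List (Fin l))) (Jc Js : List (Fin l))
    (As : List (ℕ × List (Fin l))) (r : ℕ) : Bool :=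
  bif isJ D Jc r then
    (Ss.all fun S => evB D S r) && (Js.any fun i => (D.chainRoot r (D.simple i) 1).isSome ||
      (D.chainRoot r (D.neg (D.simple i)) 1).isSome)
  else (bif (Ss.all fun S => evB D S r) then As.any fun a => Nat.beq r a.1 || Nat.beq r (D.neg a.1) else true)

/-- the check of the functional `a.2` of the root `a.1`: even on even roots, values `≥ 2` and `≤ -2` only at `± a`. -/
def chkA (D : ChevalleyDatum) {l : ℕ} (Ss : List (List (Fin l))) (a : ℕ × List (Fin l)) (r : ℕ) : Bool :=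
  (bif (Ss.all fun S => evB D S r) then evB D a.2 r else true) &&
    (Nat.blt (csN D a.2 r) (8 * a.2.length + 2) || Nat.beq r a.1) &&
    (Nat.blt (8 * a.2.length) (csN D a.2 r + 2) || Nat.beq r (D.neg a.1))

def chk (D : ChevalleyDatum) {l : ℕ} (Ss : List (List (Fin l))) (Jc Js : List (Fin l))
    (As : List (ℕ × List (Fin l))) : Bool :=
  allLT (fun r => chkJ D Ss Jc Js As r && As.all fun a => chkA D Ss a r) D.nroots &&
    (As.all fun a => Nat.blt a.1 D.nroots && Nat.beq (csN D a.2 a.1) (8 * a.2.length + 2) && !(isJ D Jc a.1)) &&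
    (Js.all fun i => isJ D Jc (D.simple i))

section

variable {D : ChevalleyDatum} {l : ℕ} {M : CoxeterMatrix (Fin l)} (hp : IsType D l M)
  {W : Type*} [Group W] (cs : CoxeterSystem M W) {j : ℕ} (f : Fin j ↪ Fin l)

theorem mem_LR_vec {Jc : List (Fin l)} (hJc : ∀ k, k ∈ Jc ↔ ∀ a, f a ≠ k) {r : ℕ} (hr : r < D.nroots) :
    vec D l r ∈ LR cs hp.isCartan f ↔ isJ D Jc r = true := by
  rw [isJ_iff hp Jc hr]
  constructor
  · rintro ⟨-, h⟩ k hk
    exact h k ((hJc k).1 hk)
  · intro h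
    exact ⟨isRoot_vec hp cs hr, fun k hk => h k ((hJc k).2 hk)⟩

include hp in
theorem all_evB {Ss : List (List (Fin l))} {r : ℕ} (hr : r < D.nroots) :
    (Ss.all fun S => evB D S r) = true ↔ ∀ S ∈ Ss, Even (csum D S r) := by
  rw [List.all_eq_true]
  exact forall₂_congr fun S _ => evB_iff hp S hr

include hp in
theorem mem_Ev_vec {Ss : List (List (Fin l))} {r : ℕ} (hr : r < D.nroots) :
    vec D l r ∈ Ev D l Ss ↔ ∀ S ∈ Ss, Even (csum D S r) := by
  constructor
  · rintro ⟨s, hs, e, h⟩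
    rwa [← vec_inj hp hs hr e]
  · intro h
    exact ⟨r, hr, rfl, h⟩

include hp in
/-- a term of the `r`-chain gives the sum -/
theorem vec_add_of_chainRoot {r s : ℕ} (h : (D.chainRoot r s 1).isSome = true) :
    ∃ u < D.nroots, vec D l u = vec D l r + vec D l s := by
  obtain ⟨u, hu⟩ := Option.isSome_iff_exists.1 h
  obtain ⟨h1, -, -, h2⟩ := chainRoot_rt hp.checked le_rfl hu
  refine ⟨u, h1, ?_⟩
  funext i
  rw [Pi.add_apply, vec_apply, vec_apply, vec_apply, h2]
  push_cast
  ring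

include hp in
theorem vec_ne_zero {r : ℕ} (hr : r < D.nroots) : vec D l r ≠ 0 := by
  intro h
  obtain ⟨i, hi, h1⟩ := exists_rt_ne_zero hp.checked hr
  rw [hp.rank_eq] at hi
  exact h1 (congrFun h ⟨i, hi⟩)

theorem NI_eq {Ss : List (List (Fin l))} {Jc Js : List (Fin l)} {As : List (ℕ × List (Fin l))}
    (hJc : ∀ k, k ∈ Jc ↔ ∀ a, f a ≠ k) (hc : chk D Ss Jc Js As = true) :
    NI cs hp.isCartan (Ev D l Ss) = LR cs hp.isCartan f := by
  unfold chk at hc
  rw [Bool.and_eq_true, Bool.and_eq_true, allLT_iff, List.all_eq_true, List.all_eq_true] at hc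
  obtain ⟨⟨h1, h2⟩, h3⟩ := hc
  have hneg : ∀ x ∈ Ev D l Ss, -x ∈ Ev D l Ss := by
    rintro _ ⟨r, hr, rfl, h⟩
    rw [← vec_neg hp hr, mem_Ev_vec hp (neg_lt hp.checked hr)]
    intro S hS
    rw [csum_neg hp S hr]
    exact (h S hS).neg
  have hNneg : ∀ x ∈ NI cs hp.isCartan (Ev D l Ss), -x ∈ NI cs hp.isCartan (Ev D l Ss) := by
    rintro x ⟨h4, y, hy, h5⟩
    refine ⟨hneg x h4, -y, hneg y hy, ?_⟩
    have : -x + -y = -(x + y) := by abel
    rw [this]; exact h5.neg
  ext x
  constructor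
  · rintro hx
    obtain ⟨⟨r, hr, rfl, hev⟩, y, ⟨s, hs, rfl, hev'⟩, hroot⟩ := id hx
    rw [mem_LR_vec hp cs f hJc hr]
    by_contra hJ
    rw [Bool.not_eq_true] at hJ
    have h4 := (Bool.and_eq_true _ _ ▸ h1 r hr : _ ∧ _).1
    unfold chkJ at h4
    rw [hJ, cond_false, (all_evB hp hr).2 hev, cond_true, List.any_eq_true] at h4
    obtain ⟨a, ha, h4⟩ := h4
    rw [Bool.or_eq_true, beq_iff, beq_iff] at h4
    have h5 := h2 a ha
    rw [Bool.and_eq_true, Bool.and_eq_true, blt_iff, beq_iff] at h5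
    obtain ⟨⟨ha1, ha2⟩, -⟩ := h5
    have hcs := csN_eq hp a.2 ha1
    have hcsa : csum D a.2 a.1 = 2 := by
      rw [ha2] at hcs; push_cast at hcs; linarith only [hcs]
    -- the positive one is in `NI`
    have h6 : vec D l a.1 ∈ NI cs hp.isCartan (Ev D l Ss) := by
      rcases h4 with rfl | rfl
      · exact hx
      · have := hNneg _ hx
        rwa [vec_neg hp ha1, _root_.neg_neg] at this
    obtain ⟨-, y, ⟨s, hs, rfl, hev'⟩, hroot⟩ := h6
    obtain ⟨u, hu, hu'⟩ := (isRoot_iff hp cs _).1 hroot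
    have h7 : csum D a.2 u = 2 + csum D a.2 s := by
      rw [← csv_vec hp _ hu, hu', csv_add, csv_vec hp _ ha1, csv_vec hp _ hs, hcsa]
    have h8 := (Bool.and_eq_true _ _ ▸ h1 s hs : _ ∧ _).2
    have h9 := (Bool.and_eq_true _ _ ▸ h1 u hu : _ ∧ _).2
    rw [List.all_eq_true] at h8 h9
    have h8 := h8 a ha
    have h9 := h9 a ha
    unfold chkA at h8 h9
    rw [Bool.and_eq_true, Bool.and_eq_true, Bool.or_eq_true, Bool.or_eq_true, blt_iff, blt_iff, beq_iff, beq_iff]
      at h8 h9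
    rw [(all_evB hp hs).2 hev', cond_true, evB_iff hp _ hs] at h8
    obtain ⟨⟨h8a, -⟩, h8c⟩ := h8
    obtain ⟨⟨-, h9b⟩, -⟩ := h9
    have hcs' := csN_eq hp a.2 hs
    have hcu := csN_eq hp a.2 hu
    have h10 : s ≠ D.neg a.1 := by
      rintro rfl
      rw [vec_neg hp ha1, add_neg_cancel] at hu'
      exact vec_ne_zero hp hu hu'
    have h11 : u ≠ a.1 := by
      rintro rfl
      rw [left_eq_add] at hu'
      exact vec_ne_zero hp hs hu'
    have h12 := h8c.resolve_right h10
    have h13 := h9b.resolve_right h11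
    obtain ⟨k, hk⟩ := h8a
    have h14 : (8 * a.2.length : ℤ) < csN D a.2 s + 2 := by exact_mod_cast h12
    have h15 : (csN D a.2 u : ℤ) < 8 * a.2.length + 2 := by exact_mod_cast h13
    omega
  · rintro hx
    obtain ⟨r, hr, rfl⟩ := (isRoot_iff hp cs x).1 hx.1
    have hJ := (mem_LR_vec hp cs f hJc hr).1 hx
    have h4 := (Bool.and_eq_true _ _ ▸ h1 r hr : _ ∧ _).1
    unfold chkJ at h4
    rw [hJ, cond_true, Bool.and_eq_true, all_evB hp hr, List.any_eq_true] at h4
    obtain ⟨h4, i, hi, h5⟩ := h4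
    rw [Bool.or_eq_true] at h5
    have hsi := simple_lt hp.checked (lt_rank hp i)
    have hJi := h3 i hi
    have hei : ∀ S ∈ Ss, Even (csum D S (D.simple i)) := by
      have h6 := (Bool.and_eq_true _ _ ▸ h1 _ hsi : _ ∧ _).1
      unfold chkJ at h6
      rw [hJi, cond_true, Bool.and_eq_true, all_evB hp hsi] at h6
      exact h6.1
    refine ⟨(mem_Ev_vec hp hr).2 h4, ?_⟩
    rcases h5 with h5 | h5
    · obtain ⟨u, hu, hu'⟩ := vec_add_of_chainRoot hp h5
      exact ⟨vec D l (D.simple i), (mem_Ev_vec hp hsi).2 hei, by rw [← hu']; exact isRoot_vec hp cs hu⟩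
    · obtain ⟨u, hu, hu'⟩ := vec_add_of_chainRoot hp h5
      refine ⟨vec D l (D.neg (D.simple i)), ?_, by rw [← hu']; exact isRoot_vec hp cs hu⟩
      rw [vec_neg hp hsi]
      exact hneg _ ((mem_Ev_vec hp hsi).2 hei)

/-- roots whose sum is not a root have no terms in the commutator formula -/
theorem commTerms_nil {r s : ℕ} (hs : ¬ IsRoot cs hp.isCartan (vec D l r + vec D l s)) :
    D.commTerms r s = [] := by
  have h1 : ∀ {r s : ℕ}, ¬ IsRoot cs hp.isCartan (vec D l r + vec D l s) → D.chainEntry r s = [] := by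
    intro r s hs
    by_contra hne
    obtain ⟨q, t, hq⟩ := List.exists_cons_of_ne_nil hne
    have h2 : (D.chainRoot r s 1).isSome = true := by
      have hdef : D.chainRoot r s 1 = ((D.chainEntry r s)[1 - 1]?).map Prod.fst := rfl
      rw [hdef, hq]
      rfl
    obtain ⟨u, hu, hu'⟩ := vec_add_of_chainRoot hp h2
    exact hs (by rw [← hu']; exact isRoot_vec hp cs hu)
  have h2 : ∀ k, D.chainRoot r s k = none := by
    intro k
    have hdef : D.chainRoot r s k = ((D.chainEntry r s)[k - 1]?).map Prod.fst := rfl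
    rw [hdef, h1 hs]
    rfl
  have h3 : ∀ k, D.chainRoot s r k = none := by
    intro k
    have hdef : D.chainRoot s r k = ((D.chainEntry s r)[k - 1]?).map Prod.fst := rfl
    rw [hdef, h1 (by rw [add_comm]; exact hs)]
    rfl
  have hdef : D.commTerms r s = ([ (D.chainRoot r s 1, D.chainM r s 1, 1, 1),
      (D.chainRoot r s 2, D.chainM r s 2, 2, 1),
      (D.chainRoot s r 2, D.chainM s r 2, 1, 2),
      (D.chainRoot r s 3, D.chainM r s 3, 3, 1),
      (D.chainRoot s r 3, - D.chainM s r 3, 1, 3),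
      ((D.chainRoot r s 3).bind fun k => D.chainRoot k s 1, ((D.chainRoot r s 1).map fun k => D.chainM k r 2 / 3).getD 0, 3, 2),
      ((D.chainRoot s r 3).bind fun k => D.chainRoot k r 1, ((D.chainRoot r s 1).map fun k => -2 * D.chainM k s 2 / 3).getD 0, 2, 3) ] :
      List (Option ℕ × ℤ × ℕ × ℕ)).filterMap fun c => c.1.map fun k => (k, c.2) := rfl
  rw [hdef]
  simp only [h2, h3, Option.bind_none, List.filterMap_cons, Option.map_none, List.filterMap_nil]

end

end Cfsg.Agent.GenExc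

end

-- merged: Cfsg.Agent.GenExc.Chev
section

/-!
# Exceptional groups over fields of odd order: involutions of the torus (helper3)

`zS S = ∏_{i ∈ S} h_i(-1)` acts on `x_r(t)` by `(-1) ^ csum D S r`.
* `evenSet` : `EvenSet` for the set of the `zS S`, `S ∈ Ss`;
* `commOK`; `diag_comm`; `card_XX`;
* `nc_mem`, `phi_mem` : `n_i`, `h_i(-1) ∈ HL f` for the nodes of `f`;
* `perf` : `X_r ≤ [HL, HL]` from the kernel check `chkPerf`.
-/

set_option autoImplicit false
set_option linter.unusedSectionVars false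

namespace Cfsg.Agent.GenExc.Chev

open CoxeterSystem Subgroup
open Cfsg Cfsg.Lie Cfsg.Lie.ChevalleyDatum
open Cfsg.Agent.ChevalleyStructure Cfsg.Agent.ChevalleyStructure.Elts Cfsg.Agent.ChevalleyStructure.CoxeterGeom
  Cfsg.Agent.ChevalleyStructure.RootVec Cfsg.Agent.ChevalleyStructure.RootVecTab
  Cfsg.Agent.ChevalleyStructure.CoxeterGeomTypes Cfsg.Agent.ChevalleyStructure.NPerm
open Cfsg.Agent.Tits.Roots Cfsg.Agent.Nodes.Reps Cfsg.Agent.Nodes.BNOf Cfsg.Agent.Nodes.RGDChev
  Cfsg.Agent.Nodes.Bruhat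
open Cfsg.Agent.OddHalf.LongSL Cfsg.Agent.OddHalf.LongSL.Chev
open Cfsg.Agent.KFacts.RgdChevCoord (TT XX nc)
open scoped commutatorElement

section

variable {D : ChevalleyDatum} {l : ℕ} {M : CoxeterMatrix (Fin l)} (hp : IsType D l M) (K : Type) [Field K]

/-- `∏_{i ∈ S} h_i(-1)` -/
noncomputable def zS : List (Fin l) → ↥(D.group K)
  | [] => 1
  | i :: S => phi hp K i (-1) * zS S

theorem zS_nil : zS hp K [] = 1 := rfl

theorem zS_cons (i : Fin l) (S : List (Fin l)) : zS hp K (i :: S) = phi hp K i (-1) * zS hp K S := rfl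

theorem zS_append (S T : List (Fin l)) : zS hp K (S ++ T) = zS hp K S * zS hp K T := by
  induction S with
  | nil => rw [List.nil_append, zS_nil, one_mul]
  | cons i S ih => rw [List.cons_append, zS_cons, zS_cons, ih, mul_assoc]

theorem phi_mem_T (i : Fin l) : phi hp K i (-1) ∈ TT D K := by
  rw [Subgroup.mem_subgroupOf, phi_neg_one]
  exact hG_mem_diagonal hp.inList (RootVec.simple_lt hp.checked (lt_rank hp i)) (neg_ne_zero.2 one_ne_zero)

theorem zS_mem_T (S : List (Fin l)) : zS hp K S ∈ TT D K := by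
  induction S with
  | nil => exact one_mem _
  | cons i S ih => exact mul_mem (phi_mem_T hp K i) ih

include hp in
/-- the torus is commutative -/
theorem diag_comm : ∀ a ∈ TT D K, ∀ b ∈ TT D K, a * b = b * a := by
  intro a ha b hb
  rw [Subgroup.mem_subgroupOf] at ha hb
  obtain ⟨χ, hχ⟩ := HMatDiagAll.mem_torus.1 (HMatDiagAll.diagonalSubgroup_le_torus hp.inList ha)
  obtain ⟨ψ, hψ⟩ := HMatDiagAll.mem_torus.1 (HMatDiagAll.diagonalSubgroup_le_torus hp.inList hb)
  apply Subtype.ext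
  apply Units.ext
  rw [Subgroup.coe_mul, Subgroup.coe_mul, Units.val_mul, Units.val_mul, hχ, hψ, Matrix.diagonal_mul_diagonal,
    Matrix.diagonal_mul_diagonal]
  congr 1
  funext i
  exact mul_comm _ _

theorem zS_sq (S : List (Fin l)) : zS hp K S * zS hp K S = 1 := by
  induction S with
  | nil => rw [zS_nil, one_mul]
  | cons i S ih =>
    have h1 := diag_comm hp K _ (phi_mem_T hp K i) _ (zS_mem_T hp K S)
    rw [zS_cons]
    calc phi hp K i (-1) * zS hp K S * (phi hp K i (-1) * zS hp K S)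
        = phi hp K i (-1) * (zS hp K S * phi hp K i (-1)) * zS hp K S := by group
      _ = phi hp K i (-1) * (phi hp K i (-1) * zS hp K S) * zS hp K S := by rw [h1]
      _ = (phi hp K i (-1) * phi hp K i (-1)) * (zS hp K S * zS hp K S) := by group
      _ = 1 := by rw [ih, mul_one, ← map_mul, neg_one_mul, _root_.neg_neg, map_one]

theorem conj_zS (S : List (Fin l)) {r : ℕ} (hr : r < D.nroots) (t : K) :
    ((zS hp K S : ↥(D.group K)) : GL D.Idx K) * xG hp.inList r t * ((zS hp K S : ↥(D.group K)) : GL D.Idx K)⁻¹ =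
      xG hp.inList r ((-1) ^ (csum D S r) * t) := by
  induction S with
  | nil =>
    have h1 : csum D ([] : List (Fin l)) r = 0 := rfl
    rw [zS_nil, h1, zpow_zero, one_mul]
    simp only [_root_.OneMemClass.coe_one, _root_.one_mul, _root_.inv_one, _root_.mul_one]
  | cons i S ih =>
    have h2 : csum D (i :: S) r = D.cartan i r + csum D S r := rfl
    rw [zS_cons, h2, zpow_add₀ (neg_ne_zero.2 one_ne_zero), mul_assoc ((-1 : K) ^ _), ← conj_hG hp K i hr (-1)
      (neg_ne_zero.2 one_ne_zero), ← ih, ← phi_neg_one hp K i, Subgroup.coe_mul, mul_inv_rev]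
    simp only [mul_assoc]

theorem mem_XX {r : ℕ} (hr : r < D.nroots) {u : ↥(D.group K)} :
    u ∈ XX D l K (vec D l r) ↔ ∃ t, (u : GL D.Idx K) = xG hp.inList r t := by
  rw [Subgroup.mem_subgroupOf, XV_vec hp K hr, mem_rootSubgroup_iff hp.inList]
  

theorem commute_zS {S : List (Fin l)} {r : ℕ} (hr : r < D.nroots) (he : Even (csum D S r)) {u : ↥(D.group K)}
    (hu : u ∈ XX D l K (vec D l r)) : zS hp K S * u = u * zS hp K S := by
  obtain ⟨t, ht⟩ := (mem_XX hp K hr).1 hu
  have h1 := conj_zS hp K S hr t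
  rw [he.neg_one_zpow, one_mul, ← ht] at h1
  apply Subtype.ext
  rw [Subgroup.coe_mul, Subgroup.coe_mul]
  exact mul_inv_eq_iff_eq_mul.1 h1

variable {K}

theorem not_commute_zS (h2 : (2 : K) ≠ 0) {S : List (Fin l)} {r : ℕ} (hr : r < D.nroots)
    (ho : ¬ Even (csum D S r)) {u : ↥(D.group K)} (hu : u ∈ XX D l K (vec D l r))
    (hc : zS hp K S * u = u * zS hp K S) : u = 1 := by
  obtain ⟨t, ht⟩ := (mem_XX hp K hr).1 hu
  have h1 := conj_zS hp K S hr t
  rw [(Int.not_even_iff_odd.1 ho).neg_one_zpow, neg_one_mul] at h1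
  have h3 : ((zS hp K S : ↥(D.group K)) : GL D.Idx K) * xG hp.inList r t *
      ((zS hp K S : ↥(D.group K)) : GL D.Idx K)⁻¹ = xG hp.inList r t := by
    rw [← ht, ← Subgroup.coe_mul, hc, Subgroup.coe_mul, mul_inv_cancel_right]
  rw [h3] at h1
  have h4 := xG_injective hp.inList hr h1
  have h5 : t = 0 := by
    have h6 : 2 * t = 0 := by linear_combination h4
    exact (mul_eq_zero.1 h6).resolve_left h2
  apply Subtype.ext
  rw [ht, h5, xG_zero]
  rfl

theorem zS_ne_one (h2 : (2 : K) ≠ 0) {S : List (Fin l)} {r : ℕ} (hr : r < D.nroots)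
    (ho : ¬ Even (csum D S r)) : zS hp K S ≠ 1 := by
  intro h
  have h1 : (⟨xG hp.inList r 1, xG_mem_group hp.inList r 1⟩ : ↥(D.group K)) = 1 :=
    not_commute_zS hp h2 hr ho ((mem_XX hp K hr).2 ⟨1, rfl⟩) (by rw [h, one_mul, mul_one])
  have h3 : xG hp.inList r (1 : K) = xG hp.inList r 0 := by
    rw [xG_zero]; exact congrArg Subtype.val h1
  exact one_ne_zero (xG_injective hp.inList hr h3)

variable {W : Type*} [Group W] (cs : CoxeterSystem M W)

theorem evenSet (h2 : (2 : K) ≠ 0) (Ss : List (List (Fin l))) :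
    EvenSet cs hp.isCartan (XX D l K) {y | ∃ S ∈ Ss, y = zS hp K S} (Ev D l Ss) where
  root := by
    rintro _ ⟨r, hr, rfl, -⟩
    exact isRoot_vec hp cs hr
  neg := by
    rintro _ ⟨r, hr, rfl, h⟩
    rw [← vec_neg hp hr, mem_Ev_vec hp (_root_.Cfsg.Agent.ChevalleyStructure.RootVec.neg_lt hp.checked hr)]
    intro S hS
    rw [csum_neg hp S hr]
    exact (h S hS).neg
  even := by
    rintro _ ⟨r, hr, rfl, h⟩ u hu
    rw [Subgroup.mem_centralizer_iff]
    rintro _ ⟨S, hS, rfl⟩
    exact commute_zS hp K hr (h S hS) hu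
  odd := by
    intro x hx hxE
    obtain ⟨r, hr, rfl⟩ := (isRoot_iff hp cs x).1 hx
    rw [mem_Ev_vec hp hr] at hxE
    push Not at hxE
    obtain ⟨S, hS, ho⟩ := hxE
    rw [eq_bot_iff]
    rintro u ⟨hu, hc⟩
    rw [Subgroup.mem_bot]
    exact not_commute_zS hp h2 hr ho hu (Subgroup.mem_centralizer_iff.1 hc _ ⟨S, hS, rfl⟩)

theorem commOK : CommOK cs hp.isCartan (XX D l K) := by
  intro x y hx hy hxy hr u hu v hv
  obtain ⟨r, hr', rfl⟩ := (isRoot_iff hp cs x).1 hx
  obtain ⟨s, hs', rfl⟩ := (isRoot_iff hp cs y).1 hy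
  obtain ⟨a, ha⟩ := (mem_XX hp K hr').1 hu
  obtain ⟨b, hb⟩ := (mem_XX hp K hs').1 hv
  apply Subtype.ext
  rw [Subgroup.coe_mul, Subgroup.coe_mul, ha, hb]
  by_cases hrs : r = s
  · subst hrs
    rw [xG_add, xG_add, add_comm]
  · refine (commute_xG hp K hs' hr' hrs ?_ (commTerms_nil hp cs (by rw [add_comm]; exact hr)) b a)
    rintro rfl
    exact hxy (vec_neg hp hs')

include hp in
/-- root groups have the order of the field -/
theorem card_XX {r : ℕ} (hr : r < D.nroots) : Nat.card ↥(XX D l K (vec D l r)) = Nat.card K := by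
  symm
  refine Nat.card_congr (Equiv.ofBijective (fun t : K => (⟨⟨xG hp.inList r t, xG_mem_group hp.inList r t⟩,
    (mem_XX hp K hr).2 ⟨t, rfl⟩⟩ : ↥(XX D l K (vec D l r)))) ⟨?_, ?_⟩)
  · intro a b hab
    exact xG_injective hp.inList hr (congrArg (fun x : ↥(XX D l K (vec D l r)) => ((x : ↥(D.group K)) : GL D.Idx K)) hab)
  · rintro ⟨u, hu⟩
    obtain ⟨t, ht⟩ := (mem_XX hp K hr).1 hu
    exact ⟨t, Subtype.ext (Subtype.ext ht.symm)⟩

variable (K) {j : ℕ} (f : Fin j ↪ Fin l)

/-- the root elements of the `J`-roots -/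
theorem xG_mem_HL {r : ℕ} (hr : r < D.nroots) (hJ : vec D l r ∈ LR cs hp.isCartan f) (t : K) :
    (⟨xG hp.inList r t, xG_mem_group hp.inList r t⟩ : ↥(D.group K)) ∈ HL cs hp.isCartan (XX D l K) f :=
  X_le_HL f hJ ((mem_XX hp K hr).2 ⟨t, rfl⟩)

theorem vec_simple_mem (a : Fin j) : vec D l (D.simple (f a)) ∈ LR cs hp.isCartan f := by
  rw [vec_simple hp (f a)]
  exact sr_mem_LR f a

theorem vec_neg_simple_mem (a : Fin j) : vec D l (D.neg (D.simple (f a))) ∈ LR cs hp.isCartan f := by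
  rw [vec_neg hp (RootVec.simple_lt hp.checked (lt_rank hp (f a)))]
  exact LR_neg f (vec_simple_mem hp cs f a)

theorem nc_mem (a : Fin j) : nc hp K (f a) ∈ HL cs hp.isCartan (XX D l K) f := by
  have h0 := RootVec.simple_lt hp.checked (lt_rank hp (f a))
  have h1 := xG_mem_HL hp K cs f h0 (vec_simple_mem hp cs f a) 1
  have h2 := xG_mem_HL hp K cs f (_root_.Cfsg.Agent.ChevalleyStructure.RootVec.neg_lt hp.checked h0) (vec_neg_simple_mem hp cs f a) (-1⁻¹)
  have h3 : nc hp K (f a) = (⟨xG hp.inList (D.simple (f a)) 1, xG_mem_group hp.inList _ 1⟩ : ↥(D.group K)) *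
      ⟨xG hp.inList (D.neg (D.simple (f a))) (-1⁻¹), xG_mem_group hp.inList _ (-1⁻¹)⟩ *
      ⟨xG hp.inList (D.simple (f a)) 1, xG_mem_group hp.inList _ 1⟩ := by
    apply Subtype.ext
    rw [Subgroup.coe_mul, Subgroup.coe_mul]
    show nG hp.inList (D.simple (f a)) 1 = _
    rw [nG_def]
    simp only [mul_assoc]
  rw [h3]
  exact mul_mem (mul_mem h1 h2) h1

theorem phi_mem (a : Fin j) (g : Matrix.SpecialLinearGroup (Fin 2) K) :
    phi hp K (f a) g ∈ HL cs hp.isCartan (XX D l K) f := by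
  have h0 := RootVec.simple_lt hp.checked (lt_rank hp (f a))
  have h1 : g ∈ (HL cs hp.isCartan (XX D l K) f).comap (phi hp K (f a)) := by
    refine (Subgroup.closure_le _).2 ?_ (SL2Hom.mem_closure_SL2 g)
    rintro x (⟨t, rfl⟩ | ⟨t, rfl⟩)
    · have h2 := xG_mem_HL hp K cs f h0 (vec_simple_mem hp cs f a) t
      have h3 : phi hp K (f a) (SL2Hom.up t) =
          (⟨xG hp.inList (D.simple (f a)) t, xG_mem_group hp.inList _ t⟩ : ↥(D.group K)) :=
        Subtype.ext (phi_up hp K (f a) t)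
      show phi hp K (f a) (SL2Hom.up t) ∈ HL cs hp.isCartan (XX D l K) f
      rw [h3]; exact h2
    · have h2 := xG_mem_HL hp K cs f (_root_.Cfsg.Agent.ChevalleyStructure.RootVec.neg_lt hp.checked h0) (vec_neg_simple_mem hp cs f a) t
      have h3 : phi hp K (f a) (SL2Hom.lo t) =
          (⟨xG hp.inList (D.neg (D.simple (f a))) t, xG_mem_group hp.inList _ t⟩ : ↥(D.group K)) :=
        Subtype.ext (phi_lo hp K (f a) t)
      show phi hp K (f a) (SL2Hom.lo t) ∈ HL cs hp.isCartan (XX D l K) f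
      rw [h3]; exact h2
  exact h1

theorem zS_mem_HL {S : List (Fin l)} (hS : ∀ i ∈ S, ∃ a, f a = i) : zS hp K S ∈ HL cs hp.isCartan (XX D l K) f := by
  induction S with
  | nil => exact one_mem _
  | cons i S ih =>
    obtain ⟨a, rfl⟩ := hS i List.mem_cons_self
    exact mul_mem (phi_mem hp K cs f a _) (ih fun i hi => hS i (List.mem_cons_of_mem _ hi))

/-! ### perfectness -/

/-- `(r, r₁, r₂)` : `r` is the only term of the commutator formula for `r₁`, `r₂`, with coefficient `± 2` -/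
def chkCert (D : ChevalleyDatum) {l : ℕ} (Jc : List (Fin l)) (c : ℕ × ℕ × ℕ) : Bool :=
  isJ D Jc c.2.1 && isJ D Jc c.2.2 && Nat.blt c.2.1 D.nroots && Nat.blt c.2.2 D.nroots &&
    !(Nat.beq c.2.2 c.2.1) && !(Nat.beq c.2.2 (D.neg c.2.1)) &&
    (decide (D.commTerms c.2.1 c.2.2 = [(c.1, 2, 1, 1)]) || decide (D.commTerms c.2.1 c.2.2 = [(c.1, -2, 1, 1)]))

def chkPerf (D : ChevalleyDatum) {l : ℕ} (Jc Js : List (Fin l)) (certs : List (ℕ × ℕ × ℕ)) : Bool :=
  allLT (fun r => bif isJ D Jc r then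
    (Js.any fun i => Nat.beq (Nat.mod (cart D i r) 2) 1) || certs.any fun c => Nat.beq c.1 r
    else true) D.nroots && (certs.all fun c => chkCert D Jc c)

/-- `x_r(c t u) ∈ [HL, HL]` from the commutator formula -/
theorem mem_comm_of_cert (h2 : (2 : K) ≠ 0) {r r1 r2 : ℕ} {C : ℤ} (hC : C = 2 ∨ C = -2) (h1 : r1 < D.nroots)
    (h1' : r2 < D.nroots) (hJ1 : vec D l r1 ∈ LR cs hp.isCartan f) (hJ2 : vec D l r2 ∈ LR cs hp.isCartan f)
    (hne : r2 ≠ r1) (hneg : r2 ≠ D.neg r1) (hct : D.commTerms r1 r2 = [(r, C, 1, 1)]) (hr : r < D.nroots) :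
    XX D l K (vec D l r) ≤ ⁅HL cs hp.isCartan (XX D l K) f, HL cs hp.isCartan (XX D l K) f⁆ := by
  intro u hu
  obtain ⟨t, ht⟩ := (mem_XX hp K hr).1 hu
  have hC0 : (C : K) ≠ 0 := by
    rcases hC with rfl | rfl
    · push_cast; exact h2
    · push_cast; exact neg_ne_zero.2 h2
  have h3 := comm_xG hp (K := K) h1 h1' hne hneg (-(t / C)) 1
  have h4 : D.commWord K r1 r2 (-(t / C)) 1 = [(r, t)] := by
    show (D.commTerms r1 r2).map _ = _
    rw [hct]
    simp only [List.map_cons, List.map_nil, pow_one, one_pow, mul_one, _root_.neg_neg]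
    rw [mul_div_cancel₀ _ hC0]
  rw [h4, wordG_cons, wordG_nil, mul_one] at h3
  have h5 : u = ⁅(⟨xG hp.inList r2 1, xG_mem_group hp.inList _ 1⟩ : ↥(D.group K))⁻¹,
      (⟨xG hp.inList r1 (-(t / C)), xG_mem_group hp.inList _ _⟩ : ↥(D.group K))⁻¹⁆ := by
    apply Subtype.ext
    rw [ht]
    exact h3.symm
  rw [h5]
  exact Subgroup.commutator_mem_commutator (inv_mem (xG_mem_HL hp K cs f h1' hJ2 _))
    (inv_mem (xG_mem_HL hp K cs f h1 hJ1 _))

theorem perf (h2 : (2 : K) ≠ 0) {Jc Js : List (Fin l)} {certs : List (ℕ × ℕ × ℕ)}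
    (hJc : ∀ k, k ∈ Jc ↔ ∀ a, f a ≠ k) (hJs : ∀ k ∈ Js, ∃ a, f a = k) (hc : chkPerf D Jc Js certs = true) :
    ∀ x ∈ LR cs hp.isCartan f, XX D l K x ≤
      ⁅HL cs hp.isCartan (XX D l K) f, HL cs hp.isCartan (XX D l K) f⁆ := by
  intro x hx
  obtain ⟨r, hr, rfl⟩ := (isRoot_iff hp cs x).1 hx.1
  have hJ := (mem_LR_vec hp cs f hJc hr).1 hx
  unfold chkPerf at hc
  rw [Bool.and_eq_true, allLT_iff, List.all_eq_true] at hc
  have h3 := hc.1 r hr
  rw [hJ, cond_true, Bool.or_eq_true, List.any_eq_true, List.any_eq_true] at h3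
  rcases h3 with ⟨i, hi, h3⟩ | ⟨c, hc', h3⟩
  · rw [beq_iff] at h3
    obtain ⟨a, rfl⟩ := hJs i hi
    have hodd : ¬ Even (csum D [f a] r) := by
      have h4 : csum D [f a] r = D.cartan (f a) r := by
        show D.cartan (f a) r + 0 = _
        rw [add_zero]
      rw [h4, cartan_eq_cart hp.checked (lt_rank hp (f a)) hr, Int.even_iff]
      have h5 : cart D (f a) r % 2 = 1 := h3
      omega
    intro u hu
    obtain ⟨t, ht⟩ := (mem_XX hp K hr).1 hu
    have h5 := conj_zS hp K [f a] hr (-(t / 2))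
    rw [(Int.not_even_iff_odd.1 hodd).neg_one_zpow, neg_one_mul, _root_.neg_neg] at h5
    have : NeZero (2 : K) := ⟨h2⟩
    have h6 : u = ⁅zS hp K [f a], (⟨xG hp.inList r (-(t / 2)), xG_mem_group hp.inList _ _⟩ : ↥(D.group K))⁆ := by
      apply Subtype.ext
      rw [ht]
      show _ = (zS hp K [f a] : GL D.Idx K) * xG hp.inList r (-(t / 2)) * (zS hp K [f a] : GL D.Idx K)⁻¹ *
        (xG hp.inList r (-(t / 2)))⁻¹
      rw [h5, xG_inv, _root_.neg_neg, xG_add, add_halves]
    rw [h6]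
    refine Subgroup.commutator_mem_commutator (zS_mem_HL hp K cs f ?_) (xG_mem_HL hp K cs f hr hx _)
    intro i hi
    rw [List.mem_singleton] at hi
    exact ⟨a, hi.symm⟩
  · rw [beq_iff] at h3
    have h4 := hc.2 c hc'
    unfold chkCert at h4
    simp only [Bool.and_eq_true, Bool.or_eq_true, decide_eq_true_eq, Bool.not_eq_true', blt_iff] at h4
    obtain ⟨⟨⟨⟨⟨⟨h5, h6⟩, h7⟩, h8⟩, h9⟩, h10⟩, h11⟩ := h4
    rw [h3] at h11
    have e1 : c.2.2 ≠ c.2.1 := by
      intro h
      rw [← beq_iff, h9] at h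
      exact absurd h (by decide)
    have e2 : c.2.2 ≠ D.neg c.2.1 := by
      intro h
      rw [← beq_iff, h10] at h
      exact absurd h (by decide)
    rcases h11 with h11 | h11
    · exact mem_comm_of_cert hp K cs f h2 (Or.inl rfl) h7 h8 ((mem_LR_vec hp cs f hJc h7).2 h5)
        ((mem_LR_vec hp cs f hJc h8).2 h6) e1 e2 h11 hr
    · exact mem_comm_of_cert hp K cs f h2 (Or.inr rfl) h7 h8 ((mem_LR_vec hp cs f hJc h7).2 h5)
        ((mem_LR_vec hp cs f hJc h8).2 h6) e1 e2 h11 hr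

end

end Cfsg.Agent.GenExc.Chev

end

-- merged: Cfsg.Agent.GenExc.Inv
section

/-!
# Involutions whose centralizer has a component (helper3)

* `CompInv X` : `X` has an involution whose centralizer has a component;
* `compInv_quot` : `CompInv (K / Z(K))` from an element `t` of `K`, `t² = 1`, `t ∉ Z(K)`, and `M` quasisimple, centralized by
  `t` and normalized by `C_K(t)`;
* `not_charTwo`, `not_psl_two` : then the group is not of characteristic 2 type and not isomorphic to `L₂(F)`.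
-/

set_option autoImplicit false

namespace Cfsg.Agent.GenExc

open Subgroup Cfsg
open Cfsg.Agent.SignalizersComponents.Components

universe u v

/-- `X` has an involution whose centralizer has a component. -/
def CompInv (X : Type*) [Group X] : Prop :=
  ∃ x : X, orderOf x = 2 ∧ ∃ N : Subgroup X, IsComponentOf N (centralizer ({x} : Set X))

theorem CompInv.congr {X : Type u} {Y : Type v} [Group X] [Group Y] (e : X ≃* Y) (h : CompInv X) : CompInv Y := by
  obtain ⟨x, hx, N, hN⟩ := h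
  refine ⟨e x, ?_, N.map e.toMonoidHom, ?_⟩
  · rw [← hx]; exact orderOf_injective e.toMonoidHom e.injective x
  · have h1 := CTwoTab.isComponentOf_map e hN
    rwa [CTwoTab.map_centralizer_singleton] at h1

/-- The image of a component of `C_K(t)` in the centralizer of the image of `t` in `K / Z(K)`. -/
theorem compInv_quot {K : Type*} [Group K] {t : K} {M : Subgroup K} (ht : t * t = 1) (htz : t ∉ center K)
    (hM : IsQuasisimple ↥M) (hMt : M ≤ centralizer ({t} : Set K))
    (hn : centralizer ({t} : Set K) ≤ normalizer (M : Set K)) : CompInv (K ⧸ center K) := by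
  obtain ⟨π, hπ⟩ : ∃ π : K →* K ⧸ center K, π = QuotientGroup.mk' (center K) := ⟨_, rfl⟩
  have hker : ∀ g, π g = 1 ↔ g ∈ center K := fun g => by
    rw [hπ]; exact QuotientGroup.eq_one_iff g
  have hsurj : Function.Surjective π := by rw [hπ]; exact QuotientGroup.mk'_surjective _
  have hord : orderOf (π t) = 2 := by
    rw [orderOf_eq_prime_iff]
    refine ⟨by rw [← map_pow, pow_two, ht, map_one], fun h => htz ((hker t).1 h)⟩
  refine ⟨π t, hord, M.map π, ?_⟩
  -- `D` = the preimage of the centralizer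
  set D : Subgroup K := (centralizer ({π t} : Set (K ⧸ center K))).comap π with hD
  have hmemD : ∀ g, g ∈ D ↔ g * t * g⁻¹ * t⁻¹ ∈ center K := by
    intro g
    rw [hD, mem_comap, mem_centralizer_singleton_iff, ← hker, map_mul, map_mul, map_mul, map_inv, map_inv,
      mul_inv_eq_one, mul_inv_eq_iff_eq_mul]
  have hCD : centralizer ({t} : Set K) ≤ D := by
    intro g hg
    rw [mem_centralizer_singleton_iff] at hg
    rw [hmemD, hg, mul_inv_cancel_right, mul_inv_cancel]
    exact one_mem _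
  have hMD : M ≤ D := hMt.trans hCD
  -- `M` is a component of `D`
  have hcomp : IsComponent (M.subgroupOf D) := by
    refine ⟨?_, isQuasisimple_of_mulEquiv (subgroupOfEquivOfLe hMD).symm hM⟩
    have hnC : ((centralizer ({t} : Set K)).subgroupOf D).Normal := by
      constructor
      rintro c hc g
      rw [mem_subgroupOf, mem_centralizer_singleton_iff] at hc ⊢
      have h1 : (g : K)⁻¹ ∈ D := inv_mem g.2
      rw [hmemD, inv_inv] at h1
      obtain ⟨z, hz⟩ : ∃ z, z = (g : K)⁻¹ * t * g * t⁻¹ := ⟨_, rfl⟩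
      rw [← hz] at h1
      have h2 : (g : K)⁻¹ * t * g = z * t := by rw [hz]; group
      have h3 : (c : K) * (z * t) = z * t * c := by
        rw [← mul_assoc, mem_center_iff.1 h1 c, mul_assoc, hc, mul_assoc]
      rw [← h2] at h3
      show (g : K) * c * (g : K)⁻¹ * t = t * ((g : K) * c * (g : K)⁻¹)
      calc (g : K) * c * (g : K)⁻¹ * t = g * (c * ((g : K)⁻¹ * t * g)) * (g : K)⁻¹ := by group
        _ = g * ((g : K)⁻¹ * t * g * c) * (g : K)⁻¹ := by rw [h3]
        _ = _ := by group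
    refine IsSubnormal.step (M.subgroupOf D) ((centralizer ({t} : Set K)).subgroupOf D)
      (fun x hx => hMt hx) hnC.isSubnormal ?_
    constructor
    intro x hx g
    rw [mem_subgroupOf, mem_subgroupOf] at hx ⊢
    exact (mem_normalizer_iff.1 (hn (mem_subgroupOf.1 g.2)) _).1 hx
  -- the image
  have hle : M.map π ≤ centralizer ({π t} : Set (K ⧸ center K)) := by
    rw [map_le_iff_le_comap]; exact hMD
  refine ⟨hle, ?_⟩
  let ρ : ↥D →* ↥(centralizer ({π t} : Set (K ⧸ center K))) := π.subgroupComap _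
  have hρ : Function.Surjective ρ := π.subgroupComap_surjective_of_surjective _ hsurj
  have himg : (M.subgroupOf D).map ρ = (M.map π).subgroupOf (centralizer ({π t} : Set (K ⧸ center K))) := by
    ext ⟨y, hy⟩
    rw [mem_subgroupOf]
    constructor
    · rintro ⟨⟨x, hx⟩, hxM, hxy⟩
      exact ⟨x, hxM, congrArg Subtype.val hxy⟩
    · rintro ⟨x, hxM, hxy⟩
      exact ⟨⟨x, hMD hxM⟩, hxM, Subtype.ext hxy⟩
  rcases SignalizersComponents.ComponentImage.map_eq_bot_or_isComponent hρ hcomp with h | h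
  · exfalso
    apply quasisimple_not_isMulCommutative hM
    refine ⟨⟨fun a b => ?_⟩⟩
    have h1 : (a : K) ∈ center K := by
      rw [← hker]
      have h2 : ρ ⟨a, hMD a.2⟩ ∈ (M.subgroupOf D).map ρ := mem_map_of_mem ρ (mem_subgroupOf.2 a.2)
      rw [h, mem_bot] at h2
      exact congrArg Subtype.val h2
    exact Subtype.ext (mem_center_iff.1 h1 b).symm
  · rwa [himg] at h

/-! ### `L₂(F)` -/

section SLTwo

variable {F : Type*} [Field F]

/-- matrices commuting with a non-scalar `2 × 2` matrix commute -/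
theorem sl2_comm {g a b : Matrix.SpecialLinearGroup (Fin 2) F} (hg : g ∉ center (Matrix.SpecialLinearGroup (Fin 2) F))
    (ha : a * g = g * a) (hb : b * g = g * b) : a * b = b * a := by
  have key : ∀ {x y : Matrix.SpecialLinearGroup (Fin 2) F}, x * y = y * x →
      x.1 0 1 * y.1 1 0 = y.1 0 1 * x.1 1 0 ∧ (x.1 0 0 - x.1 1 1) * y.1 0 1 = (y.1 0 0 - y.1 1 1) * x.1 0 1 ∧
        (x.1 0 0 - x.1 1 1) * y.1 1 0 = (y.1 0 0 - y.1 1 1) * x.1 1 0 := by
    intro x y h
    have h0 : x.1 * y.1 = y.1 * x.1 := congrArg Subtype.val h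
    have e1 := congrFun (congrFun h0 0) 0
    have e2 := congrFun (congrFun h0 0) 1
    have e3 := congrFun (congrFun h0 1) 0
    simp only [Matrix.mul_apply, Fin.sum_univ_two] at e1 e2 e3
    refine ⟨by linear_combination e1, by linear_combination e2, by linear_combination -e3⟩
  have key' : ∀ {x y : Matrix.SpecialLinearGroup (Fin 2) F},
      x.1 0 1 * y.1 1 0 = y.1 0 1 * x.1 1 0 → (x.1 0 0 - x.1 1 1) * y.1 0 1 = (y.1 0 0 - y.1 1 1) * x.1 0 1 →
        (x.1 0 0 - x.1 1 1) * y.1 1 0 = (y.1 0 0 - y.1 1 1) * x.1 1 0 → x * y = y * x := by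
    intro x y e1 e2 e3
    apply Subtype.ext
    show x.1 * y.1 = y.1 * x.1
    ext i j
    fin_cases i <;> fin_cases j <;> simp only [Matrix.mul_apply, Fin.sum_univ_two, Fin.zero_eta, Fin.mk_one]
    · linear_combination e1
    · linear_combination e2
    · linear_combination -e3
    · linear_combination -e1
  obtain ⟨a1, a2, a3⟩ := key ha
  obtain ⟨b1, b2, b3⟩ := key hb
  have hne : g.1 0 1 ≠ 0 ∨ g.1 1 0 ≠ 0 ∨ g.1 0 0 - g.1 1 1 ≠ 0 := by
    by_contra hcon
    push Not at hcon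
    obtain ⟨h1, h2, h3⟩ := hcon
    apply hg
    rw [mem_center_iff]
    intro y
    apply key'
    · rw [h1, h2, mul_zero, zero_mul]
    · rw [h1, h3, mul_zero, zero_mul]
    · rw [h2, h3, mul_zero, zero_mul]
  have c1 : a.1 0 1 * b.1 1 0 = b.1 0 1 * a.1 1 0 := by
    rcases hne with h | h | h
    · apply mul_left_cancel₀ h
      linear_combination b.1 0 1 * a1 - a.1 0 1 * b1
    · apply mul_left_cancel₀ h
      linear_combination b.1 1 0 * a1 - a.1 1 0 * b1
    · apply mul_left_cancel₀ h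
      linear_combination -b.1 1 0 * a2 + b.1 0 1 * a3 - (a.1 0 0 - a.1 1 1) * b1
  have c2 : (a.1 0 0 - a.1 1 1) * b.1 0 1 = (b.1 0 0 - b.1 1 1) * a.1 0 1 := by
    rcases hne with h | h | h
    · apply mul_left_cancel₀ h
      linear_combination b.1 0 1 * a2 - a.1 0 1 * b2
    · apply mul_left_cancel₀ h
      linear_combination b.1 0 1 * a3 - a.1 0 1 * b3 - (g.1 0 0 - g.1 1 1) * c1
    · apply mul_left_cancel₀ h
      linear_combination (b.1 0 0 - b.1 1 1) * a2 - (a.1 0 0 - a.1 1 1) * b2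
  refine key' c1 c2 ?_
  rcases hne with h | h | h
  · apply mul_left_cancel₀ h
    linear_combination (b.1 0 0 - b.1 1 1) * a1 - (a.1 0 0 - a.1 1 1) * b1 + g.1 1 0 * c2
  · apply mul_left_cancel₀ h
    linear_combination b.1 1 0 * a3 - a.1 1 0 * b3
  · apply mul_left_cancel₀ h
    linear_combination (b.1 0 0 - b.1 1 1) * a3 - (a.1 0 0 - a.1 1 1) * b3

/-- a subgroup commuting with a non-central element modulo the centre is solvable -/
theorem isSolvable_of_comm_mod {g : Matrix.SpecialLinearGroup (Fin 2) F}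
    (hg : g ∉ center (Matrix.SpecialLinearGroup (Fin 2) F)) (D : Subgroup (Matrix.SpecialLinearGroup (Fin 2) F))
    (hD : ∀ d ∈ D, d * g * d⁻¹ * g⁻¹ ∈ center (Matrix.SpecialLinearGroup (Fin 2) F)) : Group.IsSolvable ↥D := by
  let φ : ↥D →* ↥(center (Matrix.SpecialLinearGroup (Fin 2) F)) :=
    { toFun := fun d => ⟨(d : Matrix.SpecialLinearGroup (Fin 2) F) * g * (d : Matrix.SpecialLinearGroup (Fin 2) F)⁻¹ * g⁻¹,
        hD d d.2⟩
      map_one' := Subtype.ext (by simp only [_root_.OneMemClass.coe_one, _root_.one_mul, _root_.inv_one, _root_.mul_one, _root_.mul_inv_cancel])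
      map_mul' := by
        intro d e
        apply Subtype.ext
        show (d * e : Matrix.SpecialLinearGroup (Fin 2) F) * g * (d * e : Matrix.SpecialLinearGroup (Fin 2) F)⁻¹ * g⁻¹ =
          (d * g * (d : Matrix.SpecialLinearGroup (Fin 2) F)⁻¹ * g⁻¹) * (e * g * (e : Matrix.SpecialLinearGroup (Fin 2) F)⁻¹ * g⁻¹)
        obtain ⟨z, hz⟩ : ∃ z, z = (e * g * (e : Matrix.SpecialLinearGroup (Fin 2) F)⁻¹ * g⁻¹) := ⟨_, rfl⟩
        have h1 : z ∈ center (Matrix.SpecialLinearGroup (Fin 2) F) := by rw [hz]; exact hD e e.2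
        have h2 : (e * g * (e : Matrix.SpecialLinearGroup (Fin 2) F)⁻¹) = z * g := by rw [hz]; group
        rw [← hz]
        calc (d * e : Matrix.SpecialLinearGroup (Fin 2) F) * g * (d * e : Matrix.SpecialLinearGroup (Fin 2) F)⁻¹ * g⁻¹
            = d * (e * g * (e : Matrix.SpecialLinearGroup (Fin 2) F)⁻¹) * (d : Matrix.SpecialLinearGroup (Fin 2) F)⁻¹ * g⁻¹ := by
              group
          _ = d * (z * g) * (d : Matrix.SpecialLinearGroup (Fin 2) F)⁻¹ * g⁻¹ := by rw [h2]
          _ = z * (d * g * (d : Matrix.SpecialLinearGroup (Fin 2) F)⁻¹ * g⁻¹) := by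
              rw [← mul_assoc, mem_center_iff.1 h1 d]; simp only [mul_assoc]
          _ = _ := (mem_center_iff.1 h1 _).symm }
  have h1 : Group.IsSolvable ↥φ.ker := by
    refine Group.isSolvable_of_comm fun a b => ?_
    have key : ∀ x : ↥φ.ker, ((x : ↥D) : Matrix.SpecialLinearGroup (Fin 2) F) * g = g * x := by
      intro x
      have h2 : φ x = 1 := x.2
      have h3 := congrArg Subtype.val h2
      have h4 : ((x : ↥D) : Matrix.SpecialLinearGroup (Fin 2) F) * g * ((x : ↥D) : Matrix.SpecialLinearGroup (Fin 2) F)⁻¹ * g⁻¹ = 1 := h3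
      rw [mul_inv_eq_one, mul_inv_eq_iff_eq_mul] at h4
      exact h4
    apply Subtype.ext
    apply Subtype.ext
    exact sl2_comm hg (key a) (key b)
  have h2 : Group.IsSolvable ↥(center (Matrix.SpecialLinearGroup (Fin 2) F)) :=
    Group.isSolvable_of_comm fun a b => Subtype.ext (mem_center_iff.1 b.2 a)
  exact Group.isSolvable_of_ker_le_range φ.ker.subtype φ (by rw [Subgroup.range_subtype])

/-- centralizers of nontrivial elements in `PSL₂(F)` are solvable -/
theorem isSolvable_centralizer_psl {x : Matrix.ProjectiveSpecialLinearGroup (Fin 2) F} (hx : x ≠ 1) :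
    Group.IsSolvable ↥(centralizer ({x} : Set (Matrix.ProjectiveSpecialLinearGroup (Fin 2) F))) := by
  obtain ⟨g, rfl⟩ := QuotientGroup.mk'_surjective (center (Matrix.SpecialLinearGroup (Fin 2) F)) x
  set π := QuotientGroup.mk' (center (Matrix.SpecialLinearGroup (Fin 2) F)) with hπ
  have hker : ∀ g, π g = 1 ↔ g ∈ center (Matrix.SpecialLinearGroup (Fin 2) F) := fun g => QuotientGroup.eq_one_iff g
  have hg : g ∉ center (Matrix.SpecialLinearGroup (Fin 2) F) := fun h => hx ((hker g).2 h)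
  have h1 := isSolvable_of_comm_mod hg ((centralizer ({π g} : Set (Matrix.ProjectiveSpecialLinearGroup (Fin 2) F))).comap π)
    (by
      intro d hd
      rw [mem_comap, mem_centralizer_singleton_iff] at hd
      rw [← hker, map_mul, map_mul, map_mul, map_inv, map_inv, mul_inv_eq_one, mul_inv_eq_iff_eq_mul]
      exact hd)
  have h2 := π.subgroupComap_surjective_of_surjective
    (centralizer ({π g} : Set (Matrix.ProjectiveSpecialLinearGroup (Fin 2) F))) (QuotientGroup.mk'_surjective _)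
  exact Group.isSolvable_of_surjective h2

theorem not_psl_two : ¬ CompInv (Matrix.ProjectiveSpecialLinearGroup (Fin 2) F) := by
  rintro ⟨x, hx, N, hN⟩
  have hx1 : x ≠ 1 := by
    rintro rfl
    rw [orderOf_one] at hx
    exact absurd hx (by norm_num)
  have h1 := isSolvable_centralizer_psl hx1
  apply quasisimple_not_isSolvable hN.2.2
  infer_instance

/-- the centre of a nonsolvable `PSL₂(F)` is trivial -/
theorem center_psl_two (h : ¬ Group.IsSolvable (Matrix.ProjectiveSpecialLinearGroup (Fin 2) F)) :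
    center (Matrix.ProjectiveSpecialLinearGroup (Fin 2) F) = ⊥ := by
  rw [eq_bot_iff]
  intro x hx
  rw [mem_bot]
  by_contra hx1
  have h1 := isSolvable_centralizer_psl hx1
  apply h
  have h2 : centralizer ({x} : Set (Matrix.ProjectiveSpecialLinearGroup (Fin 2) F)) = ⊤ := by
    rw [eq_top_iff]
    intro y _
    rw [mem_centralizer_singleton_iff]
    exact mem_center_iff.1 hx y
  rw [h2] at h1
  exact Group.isSolvable_of_surjective (f := (topEquiv (G := Matrix.ProjectiveSpecialLinearGroup (Fin 2) F)).toMonoidHom)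
    topEquiv.surjective

end SLTwo

end Cfsg.Agent.GenExc

end

-- merged: Cfsg.Agent.GenExc.Main
section

/-!
# Exceptional groups over fields of odd order: a component of `C(z)` (helper3)

`CompData p q N Y` : an involution `z` of `Y` with `m₂(C(z)) ≥ 3` and a component `K` of `C(z)` such that `K / Z(K)` has an
involution whose centralizer has a component, `|K / Z(K)|_p = q ^ N` and `|K / Z(K)| ≥ q ^ (2 N)`.
* `compData` : from kernel checks, for the Chevalley groups.
-/

set_option autoImplicit false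
set_option linter.unusedSectionVars false

namespace Cfsg.Agent.GenExc

open Subgroup Cfsg

/-- see the head of the file -/
def CompData (p q N : ℕ) (Y : Type*) [Group Y] : Prop :=
  ∃ x : Y, orderOf x = 2 ∧ PRankAtLeast 2 3 ↥(centralizer ({x} : Set Y)) ∧
    ∃ L : Subgroup Y, IsComponentOf L (centralizer ({x} : Set Y)) ∧ CompInv (↥L ⧸ center ↥L) ∧
      p ^ (Nat.card (↥L ⧸ center ↥L)).factorization p = q ^ N ∧ q ^ N * q ^ N ≤ Nat.card (↥L ⧸ center ↥L)

/-- three independent commuting involutions -/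
theorem rank_of_three {G : Type*} [Group G] {x y z : G} (hx : x * x = 1) (hy : y * y = 1) (hz : z * z = 1)
    (hxy : x * y = y * x) (hxz : x * z = z * x) (hyz : y * z = z * y)
    (h1 : x ≠ 1) (h2 : y ≠ 1) (h3 : z ≠ 1) (h4 : x * y ≠ 1) (h5 : x * z ≠ 1) (h6 : y * z ≠ 1)
    (h7 : x * y * z ≠ 1) : PRankAtLeast 2 3 G := by
  have d : ∀ u : ZMod 2, u = 0 ∨ u = 1 := by decide
  have e11 : (1 : ZMod 2) + 1 = 0 := by decide
  have ne : (1 : ZMod 2) ≠ 0 := by decide
  have hf : ∀ w : G, w * w = 1 → ∀ u v : ZMod 2,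
      (if u + v = 0 then 1 else w) = (if u = 0 then 1 else w) * (if v = 0 then 1 else w) := by
    intro w hw u v
    rcases d u with rfl | rfl <;> rcases d v with rfl | rfl <;> simp only [e11, ne, hw, _root_.add_zero, ↓ _root_.reduceIte, _root_.mul_one, _root_.zero_add, _root_.one_mul]
  have hc : ∀ w w' : G, w * w' = w' * w → ∀ u v : ZMod 2,
      (if u = 0 then 1 else w) * (if v = 0 then 1 else w') = (if v = 0 then 1 else w') * (if u = 0 then 1 else w) := by
    intro w w' hw u v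
    rcases d u with rfl | rfl <;> rcases d v with rfl | rfl <;> simp [ne, hw]
  refine RankThreeTwo.Base.of_mul_three (V := ZMod 2) (by decide) ?_
    (fun u => if u = 0 then 1 else x) (fun u => if u = 0 then 1 else y) (fun u => if u = 0 then 1 else z)
    (hf x hx) (hf y hy) (hf z hz) (hc x y hxy) (hc x z hxz) (hc y z hyz) ?_
  · rw [Nat.card_zmod]
  · intro u v w h
    rcases d u with rfl | rfl <;> rcases d v with rfl | rfl <;> rcases d w with rfl | rfl <;>
      simp only [ne, ↓ _root_.reduceIte, _root_.mul_one, _root_.and_self, _root_.one_mul, _root_.and_false, _root_.and_true] at h ⊢ <;> first | exact h1 h | exact h2 h | exact h3 h | exact h4 h | exact h5 h | exact h6 h | exact h7 h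

namespace Chev

open CoxeterSystem
open Cfsg.Lie Cfsg.Lie.ChevalleyDatum
open Cfsg.Agent.ChevalleyStructure Cfsg.Agent.ChevalleyStructure.Elts Cfsg.Agent.ChevalleyStructure.CoxeterGeom
  Cfsg.Agent.ChevalleyStructure.RootVec Cfsg.Agent.ChevalleyStructure.RootVecTab
  Cfsg.Agent.ChevalleyStructure.CoxeterGeomTypes Cfsg.Agent.ChevalleyStructure.NPerm
open Cfsg.Agent.Tits.Roots Cfsg.Agent.Nodes.Reps Cfsg.Agent.Nodes.BNOf Cfsg.Agent.Nodes.RGDChev
  Cfsg.Agent.Nodes.Bruhat Cfsg.Agent.Nodes.SubComb Cfsg.Agent.Nodes.Sub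
open Cfsg.Agent.OddHalf.LongSL Cfsg.Agent.OddHalf.LongSL.Chev
open Cfsg.Agent.KFacts.RgdChevCoord (TT XX nc)

/-- A connected subdiagram `f` such that `HL f` is normalized by the centralizer of the `zS S`, `S ∈ Ss`: the checks. -/
structure SubD (D : ChevalleyDatum) {l m : ℕ} (f : Fin (m + 1) ↪ Fin l) (Ss : List (List (Fin l)))
    (Jc Js : List (Fin l)) : Prop where
  hJc : ∀ k, k ∈ Jc ↔ ∀ a, f a ≠ k
  hJs : ∀ k ∈ Js, ∃ a, f a = k
  chk : ∃ As, chk D Ss Jc Js As = true
  perf : ∃ certs, chkPerf D Jc Js certs = true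
  par : ∃ par : Fin (m + 1) → Fin (m + 1), ∀ b, b ≠ 0 → par b < b ∧ cartanOf D l (f (par b)) (f b) ≠ 0

theorem conn_of_parent {m : ℕ} {R : Fin (m + 1) → Fin (m + 1) → Prop} (hs : ∀ a b, R a b → R b a)
    (par : Fin (m + 1) → Fin (m + 1)) (hpar : ∀ b, b ≠ 0 → par b < b ∧ R (par b) b) (S : Set (Fin (m + 1)))
    (hne : S.Nonempty) (hu : S ≠ Set.univ) : ∃ a ∈ S, ∃ b, b ∉ S ∧ R a b := by
  classical
  by_cases h0 : (0 : Fin (m + 1)) ∈ S
  · obtain ⟨b, hb⟩ := (Set.ne_univ_iff_exists_notMem S).1 hu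
    have h1 : ∃ n : ℕ, ∃ b : Fin (m + 1), (b : ℕ) = n ∧ b ∉ S := ⟨_, b, rfl, hb⟩
    obtain ⟨c, hc, hcS⟩ := Nat.find_spec h1
    have hc0 : c ≠ 0 := by rintro rfl; exact hcS h0
    obtain ⟨h2, h3⟩ := hpar c hc0
    refine ⟨par c, ?_, c, hcS, h3⟩
    by_contra h4
    have h5 := Nat.find_min h1 (m := (par c : ℕ)) (by rw [← hc]; exact h2)
    exact h5 ⟨par c, rfl, h4⟩
  · obtain ⟨b, hb⟩ := hne
    have h1 : ∃ n : ℕ, ∃ b : Fin (m + 1), (b : ℕ) = n ∧ b ∈ S := ⟨_, b, rfl, hb⟩
    obtain ⟨c, hc, hcS⟩ := Nat.find_spec h1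
    have hc0 : c ≠ 0 := by rintro rfl; exact h0 hcS
    obtain ⟨h2, h3⟩ := hpar c hc0
    refine ⟨c, hcS, par c, ?_, hs _ _ h3⟩
    intro h4
    have h5 := Nat.find_min h1 (m := (par c : ℕ)) (by rw [← hc]; exact h2)
    exact h5 ⟨par c, rfl, h4⟩

theorem ne_two_of_cart {I : Type*} {M : CoxeterMatrix I} {A : I → I → ℤ} (h : IsCartan M A) {i j : I}
    (hA : A i j ≠ 0) : M i j ≠ 2 := by
  intro hM
  by_cases hij : i = j
  · subst hij
    rw [M.diagonal] at hM
    exact absurd hM (by norm_num)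
  · rcases h.rel i j hij with h1 | h1 | h1 | h1
    · exact hA h1.2.1
    · rw [hM] at h1; exact absurd h1.1 (by norm_num)
    · rw [hM] at h1; exact absurd h1.1 (by norm_num)
    · rw [hM] at h1; exact absurd h1.1 (by norm_num)

section

variable {D : ChevalleyDatum} {l : ℕ} {M : CoxeterMatrix (Fin l)} (hp : IsType D l M) {K : Type} [Field K]
  {m : ℕ} {f : Fin (m + 1) ↪ Fin l} {Ss : List (List (Fin l))} {Jc Js : List (Fin l)}

include hp in
theorem SubD.conn (S : SubD D f Ss Jc Js) : ∀ T : Set (Fin (m + 1)), T.Nonempty → T ≠ Set.univ →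
    ∃ a ∈ T, ∃ b, b ∉ T ∧ M (f a) (f b) ≠ 2 := by
  obtain ⟨par, hpar⟩ := S.par
  exact conn_of_parent (R := fun a b => M (f a) (f b) ≠ 2) (fun a b h => by rwa [M.symmetric]) par
    (fun b hb => ⟨(hpar b hb).1, ne_two_of_cart hp.isCartan (hpar b hb).2⟩)

variable {W : Type*} [Group W] (cs : CoxeterSystem M W)

theorem SubD.normalizes (S : SubD D f Ss Jc Js) [Finite K] (p : ℕ) [Fact p.Prime] [CharP K p] (h2 : (2 : K) ≠ 0) :
    centralizer {y | ∃ S ∈ Ss, y = zS hp K S} ≤
      normalizer (HL cs hp.isCartan (XX D l K) f : Set ↥(D.group K)) := by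
  have : Finite W := finite_W hp cs
  obtain ⟨As, hAs⟩ := S.chk
  have h1 := cent_le_norm (rgd (K := K) hp cs p) (S := {y | ∃ S ∈ Ss, y = zS hp K S}) (E := Ev D l Ss)
    (by rintro _ ⟨T, -, rfl⟩; exact zS_mem_T hp K T) (KFacts.RgdRigid.GG_eq_top (G1_eq_top hp cs))
    (commOK hp cs) (evenSet hp cs h2 Ss)
  rw [NI_eq hp cs f S.hJc hAs] at h1
  exact h1

theorem SubD.perfect (S : SubD D f Ss Jc Js) (h2 : (2 : K) ≠ 0) : ∀ x ∈ LR cs hp.isCartan f, XX D l K x ≤
      ⁅HL cs hp.isCartan (XX D l K) f, HL cs hp.isCartan (XX D l K) f⁆ := by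
  obtain ⟨certs, hc⟩ := S.perf
  exact Cfsg.Agent.GenExc.Chev.perf hp K cs f h2 S.hJc S.hJs hc

theorem SubD.isQuasisimple (S : SubD D f Ss Jc Js) [Finite K] (p : ℕ) [Fact p.Prime] [CharP K p]
    (h2 : (2 : K) ≠ 0) : IsQuasisimple ↥(HL cs hp.isCartan (XX D l K) f) := by
  have : Finite W := finite_W hp cs
  have : Finite ↥(D.group K) := inferInstance
  exact isQuasisimple_HL f (rgd (K := K) hp cs p) (nc_mem hp K cs f) (S.conn hp) (diag_comm hp K)
    (S.perfect hp cs h2)

/-- a positive root of the subdiagram -/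
def posJ (D : ChevalleyDatum) {l : ℕ} (Jc : List (Fin l)) (r : ℕ) : Bool :=
  isJ D Jc r && Nat.blt (offs D) (code D r)

/-- the number of the positive roots of the subdiagram -/
def cnt (D : ChevalleyDatum) {l : ℕ} (Jc : List (Fin l)) : ℕ := sumLT (fun r => bif posJ D Jc r then 1 else 0) D.nroots

theorem SubD.card (S : SubD D f Ss Jc Js) [Finite K] (p : ℕ) [Fact p.Prime] [CharP K p]
    (h2 : (2 : K) ≠ 0) {N : ℕ} (hN : cnt D Jc = N) :
    p ^ (Nat.card (↥(HL cs hp.isCartan (XX D l K) f) ⧸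
      center ↥(HL cs hp.isCartan (XX D l K) f))).factorization p = Nat.card K ^ N ∧
    Nat.card K ^ N * Nat.card K ^ N ≤ Nat.card (↥(HL cs hp.isCartan (XX D l K) f) ⧸
      center ↥(HL cs hp.isCartan (XX D l K) f)) := by
  classical
  have : Finite W := finite_W hp cs
  have : Finite ↥(D.group K) := inferInstance
  let P : Finset ℕ := (Finset.range D.nroots).filter fun r => posJ D Jc r = true
  have hP : ∀ r ∈ P, r < D.nroots ∧ vec D l r ∈ LR cs hp.isCartan f ∧ D.IsPosRoot r := by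
    intro r hr
    rw [Finset.mem_filter, Finset.mem_range] at hr
    obtain ⟨hr, h1⟩ := hr
    unfold posJ at h1
    rw [Bool.and_eq_true, blt_iff] at h1
    exact ⟨hr, (mem_LR_vec hp cs f S.hJc hr).2 h1.1, (isPosRoot_iff_code hp.checked hr).2 h1.2⟩
  have hvec : ∀ r ∈ P, vec D l r = iota (fun j => sr (f j)) (fun j => vec D l r (f j)) :=
    fun r hr => eq_iota_levi f (hP r hr).2.1.2
  have hinj : Set.InjOn (fun r => fun j => vec D l r (f j)) (P : Set ℕ) := by
    intro r hr s hs e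
    have e' : (fun j => vec D l r (f j)) = fun j => vec D l s (f j) := e
    refine vec_inj hp (hP r hr).1 (hP s hs).1 ?_
    rw [hvec r hr, hvec s hs, e']
  have hcardP : P.card = N := by
    rw [← hN]
    unfold cnt
    rw [sumLT_eq, Finset.card_filter]
    refine Finset.sum_congr rfl fun r _ => ?_
    cases posJ D Jc r <;> rfl
  refine card_HL f (rgd (K := K) hp cs p) (nc_mem hp K cs f) (S.conn hp) (diag_comm hp K)
    (S.perfect hp cs h2) (P.image fun r => fun j => vec D l r (f j)) ?_ ?_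
  · intro c
    rw [Finset.mem_image, isRoot_iota (cs := cs) (h := hp.isCartan) f]
    constructor
    · rintro ⟨r, hr, rfl⟩
      rw [← hvec r hr]
      refine ⟨isRoot_vec hp cs (hP r hr).1, fun j => ?_⟩
      exact ((isPosRoot_iff hp.checked r).1 (hP r hr).2.2).2 _ (lt_rank hp (f j))
    · rintro ⟨hc, h0⟩
      obtain ⟨r, hr, e⟩ := (isRoot_iff hp cs _).1 hc
      have e1 : ∀ j, vec D l r (f j) = c j := fun j => by rw [e, iota_levi_apply]
      have hL : vec D l r ∈ LR cs hp.isCartan f := by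
        rw [e]
        exact ⟨hc, fun k hk => iota_levi_apply_ne f c hk⟩
      refine ⟨r, ?_, funext e1⟩
      rw [Finset.mem_filter, Finset.mem_range]
      refine ⟨hr, ?_⟩
      unfold posJ
      rw [Bool.and_eq_true, blt_iff]
      refine ⟨(mem_LR_vec hp cs f S.hJc hr).1 hL, (isPosRoot_iff_code hp.checked hr).1 ?_⟩
      rw [isPosRoot_iff hp.checked]
      refine ⟨hr, fun i hi => ?_⟩
      rw [hp.rank_eq] at hi
      have e2 : rt D r i = vec D l r ⟨i, hi⟩ := rfl
      rw [e2]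
      by_cases hk : ∃ j, f j = ⟨i, hi⟩
      · obtain ⟨j, hj⟩ := hk
        rw [← hj, e1]
        exact h0 j
      · push Not at hk
        rw [hL.2 _ hk]
  · rw [Finset.prod_image hinj, ← hcardP, ← Finset.prod_const]
    refine Finset.prod_congr rfl fun r hr => ?_
    rw [← hvec r hr]
    exact card_XX hp (hP r hr).1

/-- some root has odd `csum` -/
def oddB (D : ChevalleyDatum) {l : ℕ} (S : List (Fin l)) : Bool := anyLT (fun r => !(evB D S r)) D.nroots

include hp in
theorem exists_odd {S : List (Fin l)} (h : oddB D S = true) : ∃ r < D.nroots, ¬ Even (csum D S r) := by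
  unfold oddB at h
  rw [anyLT_iff] at h
  obtain ⟨r, hr, h1⟩ := h
  refine ⟨r, hr, fun h3 => ?_⟩
  rw [(evB_iff hp S hr).2 h3] at h1
  exact absurd h1 (by decide)

/-- some root of the subdiagram has odd `csum` -/
def oddJ (D : ChevalleyDatum) {l : ℕ} (Jc : List (Fin l)) (S : List (Fin l)) : Bool :=
  anyLT (fun r => isJ D Jc r && !(evB D S r)) D.nroots

/-- seven sums -/
def chkRk (D : ChevalleyDatum) {l : ℕ} (a b c : List (Fin l)) : Bool :=
  oddB D a && oddB D b && oddB D c && oddB D (a ++ b) && oddB D (a ++ c) && oddB D (b ++ c) && oddB D ((a ++ b) ++ c)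

include hp in
theorem rank_three (h2 : (2 : K) ≠ 0) {a b c : List (Fin l)} (h : chkRk D a b c = true) (z : List (Fin l)) :
    PRankAtLeast 2 3 ↥(centralizer ({zS hp K z} : Set ↥(D.group K))) := by
  unfold chkRk at h
  simp only [Bool.and_eq_true] at h
  obtain ⟨⟨⟨⟨⟨⟨h1, h3⟩, h4⟩, h5⟩, h6⟩, h7⟩, h8⟩ := h
  have key : ∀ {S : List (Fin l)}, oddB D S = true → zS hp K S ≠ 1 := fun {S} hS => by
    obtain ⟨r, hr, ho⟩ := exists_odd hp hS
    exact zS_ne_one hp h2 hr ho
  have hm : ∀ S, zS hp K S ∈ centralizer ({zS hp K z} : Set ↥(D.group K)) := fun S => by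
    rw [mem_centralizer_singleton_iff]
    exact diag_comm hp K _ (zS_mem_T hp K S) _ (zS_mem_T hp K z)
  have hc : ∀ S T, zS hp K S * zS hp K T = zS hp K T * zS hp K S := fun S T =>
    diag_comm hp K _ (zS_mem_T hp K S) _ (zS_mem_T hp K T)
  refine rank_of_three (x := ⟨zS hp K a, hm a⟩) (y := ⟨zS hp K b, hm b⟩) (z := ⟨zS hp K c, hm c⟩)
    (Subtype.ext (zS_sq hp K a)) (Subtype.ext (zS_sq hp K b)) (Subtype.ext (zS_sq hp K c))
    (Subtype.ext (hc a b)) (Subtype.ext (hc a c)) (Subtype.ext (hc b c)) ?_ ?_ ?_ ?_ ?_ ?_ ?_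
  · exact fun e => key h1 (congrArg Subtype.val e)
  · exact fun e => key h3 (congrArg Subtype.val e)
  · exact fun e => key h4 (congrArg Subtype.val e)
  · exact fun e => key h5 ((zS_append hp K a b).trans (congrArg Subtype.val e))
  · exact fun e => key h6 ((zS_append hp K a c).trans (congrArg Subtype.val e))
  · exact fun e => key h7 ((zS_append hp K b c).trans (congrArg Subtype.val e))
  · refine fun e => key h8 ?_
    rw [zS_append hp K (a ++ b) c, zS_append hp K a b]
    exact congrArg Subtype.val e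

include hp in
/-- **A component of the centralizer of an involution.** -/
theorem compData [Finite K] (p : ℕ) [Fact p.Prime] [CharP K p] (h2 : (2 : K) ≠ 0) {z t : List (Fin l)}
    {m' : ℕ} {f' : Fin (m' + 1) ↪ Fin l} {Jc' Js' : List (Fin l)} (S : SubD D f [z] Jc Js)
    (S' : SubD D f' [z, t] Jc' Js') (hff : ∀ a', ∃ a, f a = f' a') (ht : ∀ i ∈ t, ∃ a, f a = i)
    (hto : oddJ D Jc t = true) (hz : oddB D z = true) {a b c : List (Fin l)} (hrk : chkRk D a b c = true)
    {N : ℕ} (hN : cnt D Jc = N) : CompData p (Nat.card K) N ↥(D.group K) := by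
  classical
  let cs : CoxeterSystem M M.Group := M.toCoxeterSystem
  have hfin : Finite ↥(D.group K) := inferInstance
  obtain ⟨L, hL⟩ : ∃ L, L = HL cs hp.isCartan (XX D l K) f := ⟨_, rfl⟩
  obtain ⟨L', hL'⟩ : ∃ L', L' = HL cs hp.isCartan (XX D l K) f' := ⟨_, rfl⟩
  have hLq : IsQuasisimple ↥L := by rw [hL]; exact S.isQuasisimple hp cs p h2
  have hLq' : IsQuasisimple ↥L' := by rw [hL']; exact S'.isQuasisimple hp cs p h2
  have hLn : centralizer {y | ∃ S ∈ [z], y = zS hp K S} ≤ normalizer (L : Set ↥(D.group K)) := by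
    rw [hL]; exact S.normalizes hp cs p h2
  have hLn' : centralizer {y | ∃ S ∈ [z, t], y = zS hp K S} ≤ normalizer (L' : Set ↥(D.group K)) := by
    rw [hL']; exact S'.normalizes hp cs p h2
  have hcard := S.card hp cs p h2 hN
  rw [← hL] at hcard
  have hev : ∀ {T : List (List (Fin l))} {j : ℕ} {g : Fin (j + 1) ↪ Fin l} {Jg Jg' : List (Fin l)},
      SubD D g T Jg Jg' → ∀ S ∈ T, HL cs hp.isCartan (XX D l K) g ≤ centralizer ({zS hp K S} : Set _) := by
    intro T j g Jg Jg' Sg S hS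
    refine RGD.Sup_le fun x hx => ?_
    obtain ⟨As, hAs⟩ := Sg.chk
    have h3 : x ∈ Ev D l T := by
      rw [← NI_eq hp cs g Sg.hJc hAs] at hx
      exact hx.1
    obtain ⟨r, hr, rfl, h4⟩ := h3
    intro u hu
    rw [mem_centralizer_singleton_iff]
    exact (commute_zS hp K hr (h4 S hS) hu).symm
  have hLz : L ≤ centralizer ({zS hp K z} : Set ↥(D.group K)) := by
    rw [hL]; exact hev S z List.mem_cons_self
  have hLt' : L' ≤ centralizer ({zS hp K t} : Set ↥(D.group K)) := by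
    rw [hL']; exact hev S' t (List.mem_cons_of_mem _ List.mem_cons_self)
  have hL'L : L' ≤ L := by
    rw [hL, hL']
    refine RGD.Sup_le fun x hx => X_le_HL f ⟨hx.1, fun k hk => hx.2 k ?_⟩
    intro a' ha'
    obtain ⟨a, ha⟩ := hff a'
    exact hk a (ha.trans ha')
  have htL : zS hp K t ∈ L := by rw [hL]; exact zS_mem_HL hp K cs f ht
  obtain ⟨r0, hr0, ho0⟩ := exists_odd hp hz
  have hz1 : zS hp K z ≠ 1 := zS_ne_one hp h2 hr0 ho0
  have hord : orderOf (zS hp K z) = 2 := by
    rw [orderOf_eq_prime_iff]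
    exact ⟨by rw [pow_two, zS_sq], hz1⟩
  have hcomp : IsComponentOf L (centralizer ({zS hp K z} : Set ↥(D.group K))) := by
    refine OddTab.isComponentOf_of_normalized hLz hLq fun g hg x hx => ?_
    have h3 : g ∈ centralizer {y | ∃ S ∈ [z], y = zS hp K S} := by
      rw [Subgroup.mem_centralizer_iff]
      rintro _ ⟨S, hS, rfl⟩
      rw [List.mem_singleton] at hS
      subst hS
      rw [mem_centralizer_singleton_iff] at hg
      exact hg.symm
    exact (mem_normalizer_iff.1 (hLn h3) x).1 hx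
  have hinv : CompInv (↥L ⧸ center ↥L) := by
    have e := subgroupOfEquivOfLe hL'L
    refine compInv_quot (t := ⟨zS hp K t, htL⟩) (M := L'.subgroupOf L) (Subtype.ext (zS_sq hp K t)) ?_
      (Cfsg.Agent.CpQuot.Congr.isQuasisimple_iff e |>.2 hLq') ?_ ?_
    · intro hcen
      unfold oddJ at hto
      rw [anyLT_iff] at hto
      obtain ⟨r, hr, h3⟩ := hto
      rw [Bool.and_eq_true] at h3
      have h4 : ¬ Even (csum D t r) := by
        intro h5
        rw [(evB_iff hp t hr).2 h5] at h3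
        exact absurd h3.2 (by decide)
      have h5 : (⟨xG hp.inList r 1, xG_mem_group hp.inList r 1⟩ : ↥(D.group K)) ∈ L := by
        rw [hL]; exact xG_mem_HL hp K cs f hr ((mem_LR_vec hp cs f S.hJc hr).2 h3.1) 1
      have h6 := congrArg Subtype.val (mem_center_iff.1 hcen ⟨_, h5⟩)
      have h7 := not_commute_zS hp h2 hr h4 ((mem_XX hp K hr).2 ⟨1, rfl⟩) h6.symm
      have h8 : xG hp.inList r (1 : K) = xG hp.inList r 0 := by
        rw [xG_zero]; exact congrArg Subtype.val h7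
      exact one_ne_zero (xG_injective hp.inList hr h8)
    · intro x hx
      rw [mem_centralizer_singleton_iff]
      have h3 := hLt' (mem_subgroupOf.1 hx)
      rw [mem_centralizer_singleton_iff] at h3
      exact Subtype.ext h3
    · intro g hg
      rw [mem_centralizer_singleton_iff] at hg
      have h3 : (g : ↥(D.group K)) ∈ centralizer {y | ∃ S ∈ [z, t], y = zS hp K S} := by
        rw [Subgroup.mem_centralizer_iff]
        rintro _ ⟨S, hS, rfl⟩
        simp only [List.mem_cons, List.not_mem_nil, or_false] at hS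
        rcases hS with rfl | rfl
        · have h4 := hLz g.2
          rw [mem_centralizer_singleton_iff] at h4
          exact h4.symm
        · exact (congrArg Subtype.val hg).symm
      rw [mem_normalizer_iff]
      intro x
      exact mem_normalizer_iff.1 (hLn' h3) (x : ↥(D.group K))
  exact ⟨zS hp K z, hord, rank_three hp h2 hrk z, L, hcomp, hinv, hcard.1, hcard.2⟩

end

end Chev

end Cfsg.Agent.GenExc

end

private theorem dce_114710f4b278 : _root_.True := by
  try have : _root_.True := by simp only [_root_.Cfsg.Agent.OddHalf.LongSL.Chev.phi.congr_simp]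
  try have : _root_.True := by simp only [_root_.Cfsg.Agent.GenExc.Chev.zS.congr_simp]
  exact _root_.True.intro
end

-- part: GenExc/Data
section
set_option linter.all false

/-!
# `F₄(q)`, `E₆(q)`, `E₇(q)`, `E₈(q)`, `q` odd: the data (helper3)

`compData_F4`, ..., `compData_E8` : `CompData` with `N = 9, 15, 30, 63`: the involution `z` of the long root `SL₂` of the
highest root, and the components `Sp₆(q)`, `SL₆(q) / *`, `Spin₁₂(q)`, `E₇(q)` of its centralizer.
-/

set_option autoImplicit false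

namespace Cfsg.Agent.GenExc.Chev

open Cfsg Cfsg.Lie Cfsg.Agent.Nodes.RGDChev

theorem isType_F4 : IsType chevF4 4 CoxeterMatrix.F₄ := by simp [IsType, typeList]
theorem isType_E6 : IsType chevE6 6 CoxeterMatrix.E₆ := by simp [IsType, typeList]
theorem isType_E7 : IsType chevE7 7 CoxeterMatrix.E₇ := by simp [IsType, typeList]
theorem isType_E8 : IsType chevE8 8 CoxeterMatrix.E₈ := by simp [IsType, typeList]

/-! ### `F₄` -/

def fF4 : Fin 3 ↪ Fin 4 := ⟨![0, 1, 2], by decide⟩
def gF4 : Fin 2 ↪ Fin 4 := ⟨![1, 2], by decide⟩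

theorem subF4 : SubD chevF4 (m := 2) fF4 [[0, 2]] [3] [0, 1, 2] where
  hJc := by decide
  hJs := by decide
  chk := ⟨[(47, [0, 1, 1, 2, 2, 2, 3, 3])], by (delta Cfsg.Agent.GenExc.chk Cfsg.Agent.GenExc.chkA Cfsg.Agent.GenExc.chkJ Cfsg.Lie.ChevalleyDatum.chainRoot; rewrite [Cfsg.Agent.ChevFast.F4.chainEntry, Cfsg.Agent.ChevFast.F4.neg]; decide +kernel)⟩
  perf := ⟨[(6, 10, 14), (17, 10, 33), (22, 12, 34), (25, 13, 35), (30, 14, 37), (41, 33, 37)], by (delta Cfsg.Agent.GenExc.Chev.chkCert Cfsg.Agent.GenExc.Chev.chkPerf; rewrite [Cfsg.Agent.ChevFast.F4.commTerms, Cfsg.Agent.ChevFast.F4.neg]; decide +kernel)⟩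
  par := ⟨![0, 0, 1], by (delta Cfsg.Agent.ChevalleyStructure.CoxeterGeomTypes.cartanOf; rewrite [Cfsg.Agent.ChevFast.F4.cartan]; decide +kernel)⟩

theorem subF4' : SubD chevF4 (m := 1) gF4 [[0, 2], [0, 1, 2]] [0, 3] [1, 2] where
  hJc := by decide
  hJs := by decide
  chk := ⟨[(41, [0, 1, 2]), (47, [0, 1, 1, 2, 2, 2, 3, 3])], by decide +kernel⟩
  perf := ⟨[(17, 19, 20), (22, 19, 27), (25, 20, 28), (30, 27, 28)], by decide +kernel⟩
  par := ⟨![0, 0], by decide +kernel⟩

/-! ### `E₆` -/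

def fE6 : Fin 5 ↪ Fin 6 := ⟨![0, 2, 3, 4, 5], by decide⟩
def gE6 : Fin 3 ↪ Fin 6 := ⟨![2, 3, 4], by decide⟩

theorem subE6 : SubD chevE6 (m := 4) fE6 [[0, 3, 5]] [1] [0, 2, 3, 4, 5] where
  hJc := by decide
  hJs := by decide
  chk := ⟨[(71, [0, 1, 1, 2, 2, 3, 3, 3, 4, 4, 5])], by (delta Cfsg.Agent.GenExc.chk Cfsg.Agent.GenExc.chkA Cfsg.Agent.GenExc.chkJ Cfsg.Lie.ChevalleyDatum.chainRoot; rewrite [Cfsg.Agent.ChevFast.E6.chainEntry, Cfsg.Agent.ChevFast.E6.neg]; decide +kernel)⟩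
  perf := ⟨[], by decide +kernel⟩
  par := ⟨![0, 0, 1, 2, 3], by decide +kernel⟩

theorem subE6' : SubD chevE6 (m := 2) gE6 [[0, 3, 5], [0, 2, 3, 4, 5]] [0, 1, 5] [2, 3, 4] where
  hJc := by decide
  hJs := by decide
  chk := ⟨[(60, [0, 2, 3, 4, 5]), (71, [0, 1, 1, 2, 2, 3, 3, 3, 4, 4, 5])], by (delta Cfsg.Agent.GenExc.chk Cfsg.Agent.GenExc.chkA Cfsg.Agent.GenExc.chkJ Cfsg.Lie.ChevalleyDatum.chainRoot; rewrite [Cfsg.Agent.ChevFast.E6.chainEntry, Cfsg.Agent.ChevFast.E6.neg]; decide +kernel)⟩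
  perf := ⟨[], by decide +kernel⟩
  par := ⟨![0, 0, 1], by decide +kernel⟩

/-! ### `E₇` -/

def fE7 : Fin 6 ↪ Fin 7 := ⟨![1, 3, 2, 4, 5, 6], by decide⟩
def gE7 : Fin 4 ↪ Fin 7 := ⟨![1, 3, 2, 4], by decide⟩

theorem subE7 : SubD chevE7 (m := 5) fE7 [[2, 4, 6]] [0] [1, 2, 3, 4, 5, 6] where
  hJc := by decide
  hJs := by decide
  chk := ⟨[(125, [0, 0, 1, 1, 2, 2, 2, 3, 3, 3, 3, 4, 4, 4, 5, 5, 6])], by (delta Cfsg.Agent.GenExc.chk Cfsg.Agent.GenExc.chkA Cfsg.Agent.GenExc.chkJ Cfsg.Lie.ChevalleyDatum.chainRoot; rewrite [Cfsg.Agent.ChevFast.E7.chainEntry, Cfsg.Agent.ChevFast.E7.neg]; decide +kernel)⟩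
  perf := ⟨[], by decide +kernel⟩
  par := ⟨![0, 0, 1, 1, 3, 4], by decide +kernel⟩

theorem subE7' : SubD chevE7 (m := 3) gE7 [[2, 4, 6], [1, 2, 6]] [0, 5, 6] [1, 2, 3, 4] where
  hJc := by decide
  hJs := by decide
  chk := ⟨[(63, [6]), (92, [1, 2, 3, 3, 4, 4, 5, 5, 6]), (125, [0, 0, 1, 1, 2, 2, 2, 3, 3, 3, 3, 4, 4, 4, 5, 5, 6])],
    by (delta Cfsg.Agent.GenExc.chk Cfsg.Agent.GenExc.chkA Cfsg.Agent.GenExc.chkJ Cfsg.Lie.ChevalleyDatum.chainRoot; rewrite [Cfsg.Agent.ChevFast.E7.chainEntry, Cfsg.Agent.ChevFast.E7.neg]; decide +kernel)⟩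
  perf := ⟨[], by decide +kernel⟩
  par := ⟨![0, 0, 1, 1], by decide +kernel⟩

/-! ### `E₈` -/

def fE8 : Fin 7 ↪ Fin 8 := ⟨![0, 2, 3, 1, 4, 5, 6], by decide⟩
def gE8 : Fin 6 ↪ Fin 8 := ⟨![1, 3, 2, 4, 5, 6], by decide⟩

theorem subE8 : SubD chevE8 (m := 6) fE8 [[1, 4, 6]] [7] [0, 1, 2, 3, 4, 5, 6] where
  hJc := by decide
  hJs := by decide
  chk := ⟨[(239, [0, 0, 1, 1, 1, 2, 2, 2, 2, 3, 3, 3, 3, 3, 3, 4, 4, 4, 4, 4, 5, 5, 5, 5, 6, 6, 6, 7, 7])],
    by (delta Cfsg.Agent.GenExc.chk Cfsg.Agent.GenExc.chkA Cfsg.Agent.GenExc.chkJ Cfsg.Lie.ChevalleyDatum.chainRoot; rewrite [Cfsg.Agent.ChevFast.E8.chainEntry, Cfsg.Agent.ChevFast.E8.neg]; decide +kernel)⟩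
  perf := ⟨[], by decide +kernel⟩
  par := ⟨![0, 0, 1, 2, 2, 4, 5], by (delta Cfsg.Agent.ChevalleyStructure.CoxeterGeomTypes.cartanOf; rewrite [Cfsg.Agent.ChevFast.E8.cartan]; decide +kernel)⟩

theorem subE8' : SubD chevE8 (m := 5) gE8 [[1, 4, 6], [2, 4, 6]] [0, 7] [1, 2, 3, 4, 5, 6] where
  hJc := by decide
  hJs := by decide
  chk := ⟨[(226, [0, 0, 1, 1, 2, 2, 2, 3, 3, 3, 3, 4, 4, 4, 5, 5, 6]),
    (239, [0, 0, 1, 1, 1, 2, 2, 2, 2, 3, 3, 3, 3, 3, 3, 4, 4, 4, 4, 4, 5, 5, 5, 5, 6, 6, 6, 7, 7])], by (delta Cfsg.Agent.GenExc.chk Cfsg.Agent.GenExc.chkA Cfsg.Agent.GenExc.chkJ Cfsg.Lie.ChevalleyDatum.chainRoot; rewrite [Cfsg.Agent.ChevFast.E8.chainEntry, Cfsg.Agent.ChevFast.E8.neg]; decide +kernel)⟩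
  perf := ⟨[], by decide +kernel⟩
  par := ⟨![0, 0, 1, 1, 3, 4], by decide +kernel⟩

section

variable {K : Type} [Field K] [Finite K] (p : ℕ) [Fact p.Prime] [CharP K p] (h2 : (2 : K) ≠ 0)

include h2

theorem compData_F4 : CompData p (Nat.card K) 9 ↥(chevF4.group K) :=
  compData isType_F4 p h2 subF4 subF4' (by decide) (by decide) (by decide +kernel) (by decide +kernel)
    (a := [0]) (b := [1]) (c := [2]) (by decide +kernel) (by decide +kernel)

theorem compData_E6 : CompData p (Nat.card K) 15 ↥(chevE6.group K) :=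
  compData isType_E6 p h2 subE6 subE6' (by decide) (by decide) (by decide +kernel) (by decide +kernel)
    (a := [0]) (b := [1]) (c := [2]) (by decide +kernel) (by decide +kernel)

theorem compData_E7 : CompData p (Nat.card K) 30 ↥(chevE7.group K) :=
  compData isType_E7 p h2 subE7 subE7' (by decide) (by decide) (by decide +kernel) (by decide +kernel)
    (a := [0]) (b := [1]) (c := [2]) (by decide +kernel) (by decide +kernel)

theorem compData_E8 : CompData p (Nat.card K) 63 ↥(chevE8.group K) :=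
  compData isType_E8 p h2 subE8 subE8' (by decide) (by decide) (by decide +kernel) (by decide +kernel)
    (a := [0]) (b := [1]) (c := [2]) (by decide +kernel) (by decide +kernel)

end

end Cfsg.Agent.GenExc.Chev
end
end
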